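import Cfsg.Agent.PSpFourInvol.Maps
import Cfsg.Agent.Invol.Isolated

/-!
# Groups with an involution centraliser covered by the coded group
-/

set_option autoImplicit false
set_option linter.style.haveILetI false
set_option linter.unusedSectionVars false

namespace CfsgLib.PSpFourInvol

open Subgroup

theorem imp_or {p q : Bool} (h : (!p || q) = true) (hp : p = true) : q = true := by
  subst hp
  simpa using h

/-- An involution centraliser covered by `W` with kernel `⟨z⟩`. -/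
structure Setup (G : Type*) [Group G] where
  ι : W →* G
  ker : ∀ a, ι a = 1 ↔ a = 1 ∨ a = z
  range : ∀ g, g * ι tW = ι tW * g ↔ ∃ a, ι a = g

namespace Setup

variable {G : Type*} [Group G] [Finite G] (D : Setup G)

theorem ι_eq_iff {a b : W} : D.ι a = D.ι b ↔ eqz a b = true := by
  rw [eqz, Bool.or_eq_true, beq_iff_eq, beq_iff_eq, ← mul_inv_eq_one, ← map_inv, ← map_mul, D.ker,
    mul_inv_eq_one, mul_inv_eq_iff_eq_mul]
  rfl

theorem ι_z : D.ι z = 1 := (D.ker z).2 (Or.inr rfl)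

theorem comm_iff {a b : W} : D.ι a * D.ι b = D.ι b * D.ι a ↔ comm a b = true := by
  rw [← map_mul, ← map_mul, D.ι_eq_iff]
  rfl

theorem inv_iff {a : W} : orderOf (D.ι a) = 2 ↔ isInv a = true := by
  rw [isInv, Bool.and_eq_true, Bool.not_eq_true', ← D.ι_eq_iff (b := 1), ← Bool.not_eq_true, ← D.ι_eq_iff,
    map_one, show wm a a = a * a from rfl, map_mul, orderOf_eq_prime_iff, sq]

theorem cj_eq (g a : W) : D.ι (cj g a) = D.ι g * D.ι a * (D.ι g)⁻¹ := by
  show D.ι (g * a * g⁻¹) = _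
  rw [map_mul, map_mul, map_inv]

/-- The central involution. -/
def t : G := D.ι tW

theorem tW_basic : inT tW = true ∧ nE tW = true ∧ isInv tW = true ∧ inT 1 = true := by
  have := t_basic
  simp only [Bool.and_eq_true] at this
  exact ⟨this.1.1.1.1, this.1.1.1.2, this.1.1.2, this.1.2⟩

theorem ord_t : orderOf D.t = 2 := D.inv_iff.2 tW_basic.2.2.1

theorem t_sq : D.t * D.t = 1 := Invol.mul_self_eq_one D.ord_t

theorem mem_cent {g : G} : g ∈ centralizer ({D.t} : Set G) ↔ ∃ a, D.ι a = g := by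
  rw [mem_centralizer_singleton_iff]
  exact D.range g

theorem ι_comm_t (a : W) : D.ι a * D.t = D.t * D.ι a := (D.range _).2 ⟨a, rfl⟩

theorem exists_rep (a : W) : ∃ b ∈ allC, D.ι a = D.ι b := by
  obtain ⟨b, hb, e⟩ := List.any_eq_true.1 (List.all_eq_true.1 reps a (mem_allW a))
  exact ⟨b, hb, D.ι_eq_iff.2 e⟩

theorem rep_inj {a b : W} (ha : a ∈ allC) (hb : b ∈ allC) (h : D.ι a = D.ι b) : a = b := by
  by_contra hne
  have key : ∀ {c d : W}, eqz c d = false → D.ι c = D.ι d → False := fun hcd e => by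
    rw [D.ι_eq_iff, hcd] at e
    exact Bool.false_ne_true e
  have hsym : ∀ x ∈ allC, ∀ y ∈ allC, x ≠ y → eqz x y = false ∨ eqz y x = false := by
    intro x hx y hy hxy
    obtain ⟨i, hi, rfl⟩ := List.getElem_of_mem hx
    obtain ⟨j, hj, rfl⟩ := List.getElem_of_mem hy
    rcases lt_trichotomy i j with h' | h' | h'
    · exact Or.inl (List.pairwise_iff_getElem.1 reps_distinct i j hi hj h')
    · subst h'; exact absurd rfl hxy
    · exact Or.inr (List.pairwise_iff_getElem.1 reps_distinct j i hj hi h')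
  rcases hsym a ha b hb hne with e | e
  · exact key e h
  · exact key e h.symm

theorem ncard_image (p : W → Bool) :
    Nat.card {g : G // ∃ a ∈ allC.filter p, D.ι a = g} = (allC.filter p).length := by
  classical
  have hnd : allC.Nodup := reps_distinct.imp (fun {a b} h e => by
    subst e
    simp [eqz] at h)
  rw [← List.toFinset_card_of_nodup (hnd.filter p), ← Nat.card_eq_finsetCard]
  symm
  refine Nat.card_eq_of_bijective
    (fun a : {a // a ∈ (allC.filter p).toFinset} =>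
      (⟨D.ι a.1, a.1, List.mem_toFinset.1 a.2, rfl⟩ : {g : G // ∃ a ∈ allC.filter p, D.ι a = g})) ⟨?_, ?_⟩
  · intro a b h
    exact Subtype.ext (D.rep_inj (List.mem_filter.1 (List.mem_toFinset.1 a.2)).1
      (List.mem_filter.1 (List.mem_toFinset.1 b.2)).1 (congrArg Subtype.val h))
  · rintro ⟨g, a, ha, rfl⟩
    exact ⟨⟨a, List.mem_toFinset.2 ha⟩, rfl⟩

theorem card_cent : Nat.card (centralizer ({D.t} : Set G)) = 576 := by
  rw [← card_inT.2, ← List.filter_eq_self.2 (fun a (_ : a ∈ allC) => (rfl : (fun _ => true) a = true)),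
    ← D.ncard_image]
  refine Nat.card_congr (Equiv.subtypeEquivRight fun g => ?_)
  rw [D.mem_cent]
  constructor
  · rintro ⟨a, rfl⟩
    obtain ⟨b, hb, e⟩ := D.exists_rep a
    exact ⟨b, List.mem_filter.2 ⟨hb, rfl⟩, e.symm⟩
  · rintro ⟨a, -, rfl⟩
    exact ⟨a, rfl⟩

/-- The elements of `E`. -/
def v (i : ℕ) : G := D.ι (vec i)

theorem v_mul {i j : ℕ} (hi : i < 16) (hj : j < 16) : D.v i * D.v j = D.v (i ^^^ j) := by
  rw [v, v, v, ← map_mul]
  exact (D.ι_eq_iff.2 (List.all_eq_true.1 (List.all_eq_true.1 vec_xor i (List.mem_range.2 hi)) j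
    (List.mem_range.2 hj))).symm

theorem v_zero : D.v 0 = 1 := map_one D.ι

theorem v_idx {w : W} (h : inE w = true) : idx w < 16 ∧ D.v (idx w) = D.ι w := by
  rw [inE, decide_eq_true_eq] at h
  refine ⟨h, ?_⟩
  unfold idx at h ⊢
  cases e : (List.range 16).find? fun k => eqz (vec k) w with
  | none => rw [e] at h; simp at h
  | some k => exact D.ι_eq_iff.2 (List.find?_some e :)

theorem v_inj {i j : ℕ} (hi : i < 16) (hj : j < 16) (h : D.v i = D.v j) : i = j := by
  have hk : ∀ {k}, k < 16 → idx (vec k) = k := fun hk =>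
    beq_iff_eq.1 (List.all_eq_true.1 vec_inj _ (List.mem_range.2 hk))
  have he := D.ι_eq_iff.1 h
  by_contra hne
  have h1 : D.v (i ^^^ j) = 1 := by rw [← D.v_mul hi hj, h, D.v_mul hj hj, Nat.xor_self, D.v_zero]
  have hlt : i ^^^ j < 16 := Nat.xor_lt_two_pow (n := 4) hi hj
  have h0 : i ^^^ j ≠ 0 := fun e => hne (Nat.eq_of_xor_eq_zero e)
  have := List.all_eq_true.1 vec_facts _ (List.mem_range.2 hlt)
  rw [Bool.and_eq_true, Bool.or_eq_true, beq_iff_eq, ← D.inv_iff] at this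
  rcases this.2 with e | e
  · exact h0 e
  · rw [show D.ι (vec (i ^^^ j)) = 1 from h1, orderOf_one] at e
    omega

theorem xor_lt {i j : ℕ} (hi : i < 16) (hj : j < 16) : i ^^^ j < 16 := Nat.xor_lt_two_pow (n := 4) hi hj

/-- The elementary abelian subgroup of order 16. -/
def E : Subgroup G where
  carrier := {g | ∃ i, i < 16 ∧ D.v i = g}
  one_mem' := ⟨0, by norm_num, D.v_zero⟩
  mul_mem' := by
    rintro a b ⟨i, hi, rfl⟩ ⟨j, hj, rfl⟩
    exact ⟨i ^^^ j, xor_lt hi hj, (D.v_mul hi hj).symm⟩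
  inv_mem' := by
    rintro a ⟨i, hi, rfl⟩
    refine ⟨i, hi, eq_inv_of_mul_eq_one_left ?_⟩
    rw [D.v_mul hi hi, Nat.xor_self, D.v_zero]

theorem v_mem {i : ℕ} (hi : i < 16) : D.v i ∈ D.E := ⟨i, hi, rfl⟩

theorem ι_mem_E {w : W} (h : inE w = true) : D.ι w ∈ D.E := ⟨idx w, D.v_idx h⟩

theorem E_comm {x y : G} (hx : x ∈ D.E) (hy : y ∈ D.E) : x * y = y * x := by
  obtain ⟨i, hi, rfl⟩ := hx
  obtain ⟨j, hj, rfl⟩ := hy
  rw [D.v_mul hi hj, D.v_mul hj hi, Nat.xor_comm]

theorem E_sq {x : G} (hx : x ∈ D.E) : x * x = 1 := by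
  obtain ⟨i, hi, rfl⟩ := hx
  rw [D.v_mul hi hi, Nat.xor_self, D.v_zero]

theorem v_one : D.v 1 = D.t := by
  refine D.ι_eq_iff.2 ?_
  decide +kernel

theorem t_mem_E : D.t ∈ D.E := D.v_one ▸ D.v_mem (by norm_num)

theorem card_E : Nat.card D.E = 16 := by
  rw [← Nat.card_fin 16]
  refine (Nat.card_eq_of_bijective (fun i : Fin 16 => (⟨D.v i, D.v_mem i.isLt⟩ : D.E))
    ⟨fun a b h => Fin.ext (D.v_inj a.isLt b.isLt (congrArg Subtype.val h)), ?_⟩).symm
  rintro ⟨g, i, hi, rfl⟩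
  exact ⟨⟨i, hi⟩, rfl⟩

theorem cent_E_le {g : G} (hg : ∀ x ∈ D.E, g * x = x * g) : g ∈ D.E := by
  obtain ⟨a, rfl⟩ := (D.range g).1 (hg _ D.t_mem_E)
  have h : ∀ {i}, i < 16 → comm a (vec i) = true := fun hi => D.comm_iff.1 (hg _ (D.v_mem hi))
  have := List.all_eq_true.1 cent_E a (mem_allW a)
  rw [h (by norm_num), h (by norm_num), h (by norm_num), h (by norm_num)] at this
  exact D.ι_mem_E (by simpa using this)

theorem inT_congr {a b : W} (h : D.ι a = D.ι b) : inT a = inT b := by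
  have h' := D.ι_eq_iff.1 h
  rw [eqz, Bool.or_eq_true] at h'
  rcases h' with e | e
  · rw [eq_of_beq e]
  · rw [eq_of_beq e]
    exact (eq_of_beq (List.all_eq_true.1 inT_z b (mem_allW b))).symm

include D in
theorem inT_mul {a b : W} (ha : inT a = true) (hb : inT b = true) : inT (a * b) = true := by
  obtain ⟨a', ha', e⟩ := D.exists_rep a
  have h1 := imp_or (List.all_eq_true.1 inT_closed a' ha') (D.inT_congr e ▸ ha)
  have h2 := imp_or (List.all_eq_true.1 h1 b (mem_allW b)) hb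
  rw [D.inT_congr (show D.ι (a * b) = D.ι (a' * b) by rw [map_mul, map_mul, e])]
  exact h2

/-- The standard Sylow 2-subgroup. -/
def T : Subgroup G where
  carrier := {g | ∃ a, inT a = true ∧ D.ι a = g}
  one_mem' := ⟨1, tW_basic.2.2.2, map_one _⟩
  mul_mem' := by
    rintro x y ⟨a, ha, rfl⟩ ⟨b, hb, rfl⟩
    exact ⟨a * b, D.inT_mul ha hb, map_mul _ _ _⟩
  inv_mem' := by
    rintro x ⟨a, ha, rfl⟩
    have hpow : ∀ n : ℕ, inT (a ^ n) = true := fun n => by
      induction n with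
      | zero => rw [pow_zero]; exact tW_basic.2.2.2
      | succ n ih => rw [pow_succ]; exact D.inT_mul ih ha
    refine ⟨a ^ (orderOf a - 1), hpow _, ?_⟩
    rw [← map_inv]
    congr 1
    rw [eq_inv_iff_mul_eq_one, ← pow_succ, Nat.sub_add_cancel (orderOf_pos a), pow_orderOf_eq_one]

theorem mem_T {g : G} : g ∈ D.T ↔ ∃ a, inT a = true ∧ D.ι a = g := Iff.rfl

theorem card_T : Nat.card D.T = 64 := by
  rw [← card_inT.1, ← D.ncard_image]
  refine Nat.card_congr (Equiv.subtypeEquivRight fun g => ?_)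
  rw [D.mem_T]
  constructor
  · rintro ⟨a, ha, rfl⟩
    obtain ⟨b, hb, e⟩ := D.exists_rep a
    exact ⟨b, List.mem_filter.2 ⟨hb, D.inT_congr e ▸ ha⟩, e.symm⟩
  · rintro ⟨a, ha, rfl⟩
    exact ⟨a, (List.mem_filter.1 ha).2, rfl⟩

theorem v_mem_T {i : ℕ} (hi : i < 16) : D.v i ∈ D.T := by
  have := List.all_eq_true.1 vec_facts i (List.mem_range.2 hi)
  simp only [Bool.and_eq_true] at this
  exact D.mem_T.2 ⟨_, this.1.1, rfl⟩

end Setup

end CfsgLib.PSpFourInvol
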