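import Cfsg.Agent.PSpFourInvol.Setup
import Cfsg.Prelude.Def_Classical

/-!
# The centraliser of a central involution in `PSp₄(3)` itself
-/

set_option autoImplicit false
set_option linter.style.haveILetI false
set_option linter.unusedSectionVars false
set_option linter.unusedSimpArgs false

namespace CfsgLib.PSpFourInvol.Concrete

open Matrix

/-- Two by two matrices. -/
abbrev M2 : Type := Matrix (Fin 2) (Fin 2) (ZMod 3)

/-- Four by four matrices. -/
abbrev MB : Type := Matrix (Fin 2 ⊕ Fin 2) (Fin 2 ⊕ Fin 2) (ZMod 3)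

/-- The matrix of a code. -/
def smat (a : S) : M2 :=
  let e : Fin 4 → ZMod 3 := (![
    ![1, 0, 0, 1],
    ![2, 0, 0, 2],
    ![0, 1, 2, 0],
    ![0, 1, 2, 1],
    ![0, 1, 2, 2],
    ![0, 2, 1, 0],
    ![0, 2, 1, 1],
    ![0, 2, 1, 2],
    ![1, 0, 1, 1],
    ![1, 0, 2, 1],
    ![1, 1, 0, 1],
    ![1, 1, 1, 2],
    ![1, 1, 2, 0],
    ![1, 2, 0, 1],
    ![1, 2, 1, 0],
    ![1, 2, 2, 2],
    ![2, 0, 1, 2],
    ![2, 0, 2, 2],
    ![2, 1, 0, 2],
    ![2, 1, 1, 1],
    ![2, 1, 2, 0],
    ![2, 2, 0, 2],
    ![2, 2, 1, 0],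
    ![2, 2, 2, 1]] : Fin 24 → Fin 4 → ZMod 3) a
  !![e 0, e 1; e 2, e 3]

theorem smat_mul : ∀ a b : S, smat (sm a b) = smat a * smat b := by decide +kernel

theorem smat_surj : ∀ a b c d : ZMod 3, a * d - b * c = 1 → ∃ x : S, smat x = !![a, b; c, d] := by
  decide +kernel

theorem smat_one : smat 0 = 1 := by decide +kernel

/-- The block of an index. -/
def blkOf : Fin 2 ⊕ Fin 2 → Fin 2 := Sum.elim id id

/-- The side of an index. -/
def sideOf : Fin 2 ⊕ Fin 2 → Fin 2 := Sum.elim (fun _ => 0) (fun _ => 1)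

/-- A block diagonal matrix. -/
def blk (X Y : M2) : MB := Matrix.of fun r c =>
  if blkOf r = blkOf c then (if blkOf r = 0 then X else Y) (sideOf r) (sideOf c) else 0

/-- The exchange of the blocks. -/
def swp : MB := Matrix.of fun r c => if sideOf r = sideOf c ∧ blkOf r ≠ blkOf c then 1 else 0

theorem blk_mul (X Y X' Y' : M2) : blk X Y * blk X' Y' = blk (X * X') (Y * Y') := by
  ext r c
  rcases r with i | i <;> rcases c with j | j <;> fin_cases i <;> fin_cases j <;>
    simp [blk, blkOf, sideOf, Matrix.mul_apply, Fintype.sum_sum_type, Fin.sum_univ_two]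

theorem swp_blk (X Y : M2) : swp * blk X Y = blk Y X * swp := by
  ext r c
  rcases r with i | i <;> rcases c with j | j <;> fin_cases i <;> fin_cases j <;>
    simp [blk, swp, blkOf, sideOf, Matrix.mul_apply, Fintype.sum_sum_type, Fin.sum_univ_two]

theorem swp_sq : swp * swp = 1 := by decide +kernel

/-- The matrix of an element of the cover. -/
def mat (w : W) : MB := blk (smat w.x) (smat w.y) * (if w.b then swp else 1)

theorem mat_mul (a b : W) : mat (a * b) = mat a * mat b := by
  rcases a with ⟨x, y, _ | _⟩ <;> rcases b with ⟨u, v, _ | _⟩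
  · show blk (smat (sm x u)) (smat (sm y v)) * 1 = blk (smat x) (smat y) * 1 * (blk (smat u) (smat v) * 1)
    rw [mul_one, mul_one, mul_one, blk_mul, smat_mul, smat_mul]
  · show blk (smat (sm x u)) (smat (sm y v)) * swp = blk (smat x) (smat y) * 1 * (blk (smat u) (smat v) * swp)
    rw [mul_one, ← mul_assoc, blk_mul, smat_mul, smat_mul]
  · show blk (smat (sm x v)) (smat (sm y u)) * swp = blk (smat x) (smat y) * swp * (blk (smat u) (smat v) * 1)
    rw [mul_one, mul_assoc, swp_blk, ← mul_assoc, blk_mul, smat_mul, smat_mul]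
  · show blk (smat (sm x v)) (smat (sm y u)) * 1 = blk (smat x) (smat y) * swp * (blk (smat u) (smat v) * swp)
    rw [mul_one, mul_assoc, ← mul_assoc swp, swp_blk, mul_assoc, swp_sq, mul_one, blk_mul, smat_mul, smat_mul]

theorem mat_mem : ∀ w : W, mat w ∈ Matrix.symplecticGroup (Fin 2) (ZMod 3) := by
  have hb : ∀ x y : S, blk (smat x) (smat y) ∈ Matrix.symplecticGroup (Fin 2) (ZMod 3) := by
    simp only [SymplecticGroup.mem_iff]
    decide +kernel
  have hs : swp ∈ Matrix.symplecticGroup (Fin 2) (ZMod 3) := by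
    simp only [SymplecticGroup.mem_iff]
    decide +kernel
  intro w
  unfold mat
  split_ifs
  · exact mul_mem (hb _ _) hs
  · rw [mul_one]; exact hb _ _

theorem mat_one : mat 1 = 1 := by decide +kernel

/-- The homomorphism into the symplectic group. -/
def lift : W →* Matrix.symplecticGroup (Fin 2) (ZMod 3) where
  toFun w := ⟨mat w, mat_mem w⟩
  map_one' := Subtype.ext mat_one
  map_mul' a b := Subtype.ext (mat_mul a b)

theorem mat_ker : allW.all (fun a => decide (mat a = 1 → a = 1)) = true := by decide +kernel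

theorem centre_W : allW.all (fun a => !(allC.all fun h => wm a h == wm h a) || a == 1 || a == z) = true := by
  decide +kernel

theorem lift_injective : Function.Injective lift := by
  rw [injective_iff_map_eq_one]
  intro a ha
  exact of_decide_eq_true (List.all_eq_true.1 mat_ker a (mem_allW a)) (congrArg Subtype.val ha)

/-- The matrix of the central involution. -/
def dm : MB := mat tW

theorem dm_eq : dm = Matrix.diagonal (Sum.elim ![-1, 1] ![-1, 1]) := by decide +kernel

theorem swp_dm : swp * dm = -(dm * swp) := by decide +kernel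

theorem mem_of_commute {A : MB} (hA : A ∈ Matrix.symplecticGroup (Fin 2) (ZMod 3)) (h : A * dm = dm * A) :
    ∃ x y : S, A = blk (smat x) (smat y) := by
  have key : ∀ r c, (Sum.elim ![-1, 1] ![-1, 1] c - Sum.elim ![-1, 1] ![-1, 1] r : ZMod 3) * A r c = 0 := by
    intro r c
    have h1 := congrFun (congrFun h r) c
    rw [dm_eq, Matrix.mul_diagonal, Matrix.diagonal_mul] at h1
    linear_combination h1
  have hz : ∀ r c, blkOf r ≠ blkOf c → A r c = 0 := by
    intro r c hne
    rcases mul_eq_zero.1 (key r c) with e | e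
    · exfalso
      revert hne e
      revert r c
      decide
    · exact e
  have zl0l1 : A (.inl 0) (.inl 1) = 0 := hz _ _ (by decide)
  have zl1l0 : A (.inl 1) (.inl 0) = 0 := hz _ _ (by decide)
  have zl0r1 : A (.inl 0) (.inr 1) = 0 := hz _ _ (by decide)
  have zl1r0 : A (.inl 1) (.inr 0) = 0 := hz _ _ (by decide)
  have zr0l1 : A (.inr 0) (.inl 1) = 0 := hz _ _ (by decide)
  have zr1l0 : A (.inr 1) (.inl 0) = 0 := hz _ _ (by decide)
  have zr0r1 : A (.inr 0) (.inr 1) = 0 := hz _ _ (by decide)
  have zr1r0 : A (.inr 1) (.inr 0) = 0 := hz _ _ (by decide)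
  have hJ := SymplecticGroup.mem_iff.1 hA
  have hd : ∀ i : Fin 2, A (.inl i) (.inl i) * A (.inr i) (.inr i) -
      A (.inl i) (.inr i) * A (.inr i) (.inl i) = 1 := by
    intro i
    have h1 := congrFun (congrFun hJ (.inl i)) (.inr i)
    fin_cases i <;>
      simp [Matrix.mul_apply, Matrix.J, Fintype.sum_sum_type, Fin.sum_univ_two, Matrix.one_apply, zl0l1, zl1l0, zl0r1, zl1r0, zr0l1, zr1l0, zr0r1, zr1r0] at h1 ⊢ <;>
      linear_combination -h1
  obtain ⟨x, hx⟩ := smat_surj _ _ _ _ (hd 0)
  obtain ⟨y, hy⟩ := smat_surj _ _ _ _ (hd 1)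
  refine ⟨x, y, ?_⟩
  rw [hx, hy]
  ext r c
  rcases r with i | i <;> rcases c with j | j <;> fin_cases i <;> fin_cases j <;>
    simp [blk, blkOf, sideOf] <;> exact hz _ _ (by decide)

theorem lift_surj_commute (A : Matrix.symplecticGroup (Fin 2) (ZMod 3)) (h : A.1 * dm = dm * A.1) :
    ∃ w, lift w = A := by
  obtain ⟨x, y, e⟩ := mem_of_commute A.2 h
  refine ⟨⟨x, y, false⟩, Subtype.ext ?_⟩
  show blk (smat x) (smat y) * 1 = A.1
  rw [mul_one, e]

/-- The model group. -/
abbrev P0 : Type := Cfsg.PSp 2 (ZMod 3)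

/-- The projection. -/
def proj : Matrix.symplecticGroup (Fin 2) (ZMod 3) →* P0 :=
  QuotientGroup.mk' (Subgroup.center (Matrix.symplecticGroup (Fin 2) (ZMod 3)))

theorem proj_eq_one {A : Matrix.symplecticGroup (Fin 2) (ZMod 3)} :
    proj A = 1 ↔ A = 1 ∨ A = lift z := by
  show (QuotientGroup.mk A : P0) = 1 ↔ _
  rw [QuotientGroup.eq_one_iff]
  constructor
  · intro hA
    have hc := fun B => (Subgroup.mem_center_iff.1 hA B).symm
    obtain ⟨w, rfl⟩ := lift_surj_commute A (congrArg Subtype.val (hc (lift tW)))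
    have h1 : (allC.all fun h => wm w h == wm h w) = true := List.all_eq_true.2 fun u _ =>
      beq_iff_eq.2 (lift_injective (by
        show lift (w * u) = lift (u * w)
        rw [map_mul, map_mul, hc]))
    have := List.all_eq_true.1 centre_W w (mem_allW w)
    rw [h1] at this
    simp only [Bool.not_true, Bool.false_or, Bool.or_eq_true, beq_iff_eq] at this
    rcases this with rfl | rfl
    · exact Or.inl (map_one _)
    · exact Or.inr rfl
  · rintro (rfl | rfl)
    · exact one_mem _
    · refine Subgroup.mem_center_iff.2 fun B => Subtype.ext ?_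
      have hz : mat z = -1 := by decide +kernel
      show B.1 * mat z = mat z * B.1
      rw [hz, mul_neg, neg_mul, mul_one, one_mul]

/-- The centraliser of the central involution of `PSp₄(3)`. -/
def setup : Setup P0 where
  ι := proj.comp lift
  ker w := by
    show proj (lift w) = 1 ↔ _
    rw [proj_eq_one, lift_injective.eq_iff, ← map_one lift, lift_injective.eq_iff]
  range g := by
    constructor
    · intro h
      obtain ⟨A, rfl⟩ := QuotientGroup.mk'_surjective _ g
      have h' : proj (A * lift tW) = proj (lift tW * A) := by rw [map_mul, map_mul]; exact h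
      have h1 : proj ((A * lift tW)⁻¹ * (lift tW * A)) = 1 := by rw [map_mul, map_inv, h', inv_mul_cancel]
      rcases proj_eq_one.1 h1 with e | e
      · rw [inv_mul_eq_one] at e
        obtain ⟨w, hw⟩ := lift_surj_commute A (congrArg Subtype.val e)
        exact ⟨w, congrArg proj hw⟩
      · rw [inv_mul_eq_iff_eq_mul] at e
        have hz : mat z = -1 := by decide +kernel
        have e' : dm * A.1 = A.1 * dm * mat z := congrArg Subtype.val e
        rw [hz, mul_neg, mul_one] at e'
        have hs : swp ∈ Matrix.symplecticGroup (Fin 2) (ZMod 3) := by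
          have := mat_mem ⟨0, 0, true⟩
          rwa [show mat ⟨0, 0, true⟩ = swp by decide +kernel] at this
        let B : Matrix.symplecticGroup (Fin 2) (ZMod 3) := A * ⟨swp, hs⟩
        obtain ⟨w, hw⟩ := lift_surj_commute B (by
          show A.1 * swp * dm = dm * (A.1 * swp)
          rw [mul_assoc, swp_dm, mul_neg, ← mul_assoc, ← mul_assoc, e', neg_mul])
        refine ⟨w * ⟨0, 0, true⟩, ?_⟩
        show proj (lift (w * ⟨0, 0, true⟩)) = proj A
        rw [map_mul, hw]
        refine congrArg proj (Subtype.ext ?_)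
        show A.1 * swp * mat ⟨0, 0, true⟩ = A.1
        rw [show mat ⟨0, 0, true⟩ = swp by decide +kernel, mul_assoc, swp_sq, mul_one]
    · rintro ⟨a, rfl⟩
      have h := List.all_eq_true.1 comm_t a (mem_allW a)
      rw [comm, eqz, Bool.or_eq_true, beq_iff_eq, beq_iff_eq] at h
      show proj (lift a) * proj (lift tW) = proj (lift tW) * proj (lift a)
      rw [← map_mul, ← map_mul, ← map_mul, ← map_mul]
      rcases h with e | e
      · exact congrArg (fun w => proj (lift w)) e
      · rw [show a * tW = z * (tW * a) from e, map_mul, map_mul, proj_eq_one.2 (Or.inr rfl), one_mul]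

end CfsgLib.PSpFourInvol.Concrete
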