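import Cfsg.Agent.PSpFourInvol.Geometry
import Cfsg.Agent.PSpFourInvol.Model
import Cfsg.Agent.Classical.SymplecticSimple

/-!
# Recognition of `PSp₄(3)` by the centraliser of a central involution
-/

set_option autoImplicit false
set_option linter.style.haveILetI false
set_option linter.unusedSectionVars false

namespace CfsgLib.PSpFourInvol

open Subgroup

theorem no_index_two : ∀ H : Subgroup Concrete.P0, H.index ≠ 2 := by
  have h2 : (2 : ZMod 3) ≠ 0 := by decide
  haveI : Fact (Nat.Prime 3) := ⟨Nat.prime_three⟩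
  haveI : IsSimpleGroup Concrete.P0 := CfsgLib.Symp.isSimpleGroup_quot
    (Or.inr (Or.inl ⟨by simp, h2⟩))
  intro H hH
  rcases (normal_of_index_eq_two hH).eq_bot_or_eq_top with rfl | rfl
  · rw [index_bot] at hH
    have h := card_subgroup_dvd_card (centralizer ({Concrete.setup.t} : Set Concrete.P0))
    rw [Concrete.setup.card_cent, hH] at h
    exact absurd (Nat.le_of_dvd two_pos h) (by norm_num)
  · rw [index_top] at hH
    omega

/-- Transport along an isomorphism. -/
def Setup.transport {P Q : Type*} [Group P] [Group Q] (D : Setup P) (ψ : P ≃* Q) : Setup Q where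
  ι := ψ.toMonoidHom.comp D.ι
  ker a := (MulEquiv.map_eq_one_iff ψ).trans (D.ker a)
  range g := by
    constructor
    · intro h
      obtain ⟨a, ha⟩ := (D.range (ψ.symm g)).1 (ψ.injective (by
        rw [map_mul, map_mul, ψ.apply_symm_apply]; exact h))
      exact ⟨a, by show ψ (D.ι a) = g; rw [ha, ψ.apply_symm_apply]⟩
    · rintro ⟨a, rfl⟩
      show ψ (D.ι a) * ψ (D.ι tW) = ψ (D.ι tW) * ψ (D.ι a)
      exact (map_mul ψ _ _).symm.trans ((congrArg ψ ((D.range _).2 ⟨a, rfl⟩)).trans (map_mul ψ _ _))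

theorem Setup.of_equiv {G P : Type*} [Group G] [Finite G] [Group P] [Finite P] (D : Setup P) (t : G)
    (ht : orderOf t = 2) (e : ↥(centralizer ({t} : Set G)) ≃* ↥(centralizer ({D.t} : Set P))) :
    Nonempty (Setup G) := by
  let j : W →* centralizer ({D.t} : Set P) := D.ι.codRestrict _ fun w => D.mem_cent.2 ⟨w, rfl⟩
  have hjsurj : ∀ y, ∃ w, j w = y := by
    rintro ⟨y, hy⟩
    obtain ⟨w, hw⟩ := D.mem_cent.1 hy
    exact ⟨w, Subtype.ext hw⟩
  let ι : W →* G := (centralizer ({t} : Set G)).subtype.comp (e.symm.toMonoidHom.comp j)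
  let t₁ : centralizer ({t} : Set G) := ⟨t, mem_centralizer_singleton_iff.2 rfl⟩
  have hιt : ι tW = t := by
    obtain ⟨a, ha⟩ := hjsurj (e t₁)
    have hcen : (allC.all fun h => comm a h) = true := List.all_eq_true.2 fun b _ => D.comm_iff.1 (by
      have h0 : t₁ * e.symm (j b) = e.symm (j b) * t₁ :=
        Subtype.ext (mem_centralizer_singleton_iff.1 (e.symm (j b)).2).symm
      have h1 := congrArg e h0
      rw [map_mul, map_mul, e.apply_symm_apply, ← ha] at h1
      exact congrArg Subtype.val h1)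
    have h := List.all_eq_true.1 centre a (mem_allW a)
    rw [hcen] at h
    simp only [Bool.not_true, Bool.false_or, Bool.or_eq_true, ← D.ι_eq_iff, map_one] at h
    rcases h with h | h
    · exfalso
      refine Invol.ne_one ht ?_
      have h1 : e t₁ = 1 := ha.symm.trans (Subtype.ext h)
      exact congrArg Subtype.val ((MulEquiv.map_eq_one_iff e).1 h1)
    · have h1 : e t₁ = j tW := ha.symm.trans (Subtype.ext h)
      show ((e.symm (j tW) : centralizer ({t} : Set G)) : G) = t
      rw [← h1, e.symm_apply_apply]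
  refine ⟨{ ι := ι, ker := fun a => ?_, range := fun g => ?_ }⟩
  · rw [← D.ker a]
    show ((e.symm (j a) : centralizer ({t} : Set G)) : G) = 1 ↔ _
    rw [OneMemClass.coe_eq_one, MulEquiv.map_eq_one_iff, ← OneMemClass.coe_eq_one]
    rfl
  · rw [hιt]
    constructor
    · intro hg
      obtain ⟨w, hw⟩ := hjsurj (e ⟨g, mem_centralizer_singleton_iff.2 hg⟩)
      exact ⟨w, by show ((e.symm (j w) : centralizer ({t} : Set G)) : G) = g; rw [hw, e.symm_apply_apply]⟩
    · rintro ⟨w, rfl⟩
      exact mem_centralizer_singleton_iff.1 (e.symm (j w)).2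

theorem exists_conj_general {P : Type*} [Group P] [Finite P] (D : Setup P) {U : Sylow 2 P} {t₀ : P}
    (ht₀ : orderOf t₀ = 2) (hU : t₀ ∈ (U : Subgroup P)) (hc : ∀ u ∈ (U : Subgroup P), u * t₀ = t₀ * u) :
    ∃ k : P, k * t₀ * k⁻¹ = D.t := by
  haveI : Fact (Nat.Prime 2) := ⟨Nat.prime_two⟩
  obtain ⟨T, hT⟩ := D.exists_sylow
  obtain ⟨k, hk⟩ := MulAction.exists_smul_eq P U T
  refine ⟨k, ?_⟩
  have hmem : k * t₀ * k⁻¹ ∈ D.T := by
    rw [← hT, ← hk]
    exact ⟨t₀, hU, rfl⟩
  refine (D.centre_T_eq hmem fun y hy => ?_).resolve_left fun h => ?_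
  · rw [← hT, ← hk] at hy
    obtain ⟨u, hu, rfl⟩ := hy
    show k * t₀ * k⁻¹ * (k * u * k⁻¹) = k * u * k⁻¹ * (k * t₀ * k⁻¹)
    rw [show k * t₀ * k⁻¹ * (k * u * k⁻¹) = k * (t₀ * u) * k⁻¹ by group, ← hc u hu]
    group
  · rw [mul_inv_eq_one, mul_eq_left] at h
    exact Invol.ne_one ht₀ h

theorem recognition {G : Type*} [Group G] [Finite G] (hG : ∀ H : Subgroup G, H.index ≠ 2)
    {P : Type*} [Group P] [Finite P] (φ : Concrete.P0 ≃* P) (U : Sylow 2 P) (t₀ : P) (ht₀ : orderOf t₀ = 2)
    (ht₀U : t₀ ∈ (U : Subgroup P)) (ht₀c : ∀ u ∈ (U : Subgroup P), u * t₀ = t₀ * u) (t : G) (ht : orderOf t = 2)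
    (e : ↥(centralizer ({t} : Set G)) ≃* ↥(centralizer ({t₀} : Set P))) :
    Nonempty (G ≃* P) := by
  obtain ⟨k, hk⟩ := exists_conj_general (Concrete.setup.transport φ) ht₀ ht₀U ht₀c
  let D := (Concrete.setup.transport φ).transport (MulAut.conj k⁻¹)
  have hDt : D.t = t₀ := by
    show k⁻¹ * (Concrete.setup.transport φ).t * k⁻¹⁻¹ = t₀
    rw [← hk]
    group
  obtain ⟨D'⟩ := Setup.of_equiv D t ht (e.trans (MulEquiv.subgroupCongr (by rw [hDt])))
  refine iso_of_setups D' hG D fun H hH => no_index_two (H.comap φ.toMonoidHom) ?_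
  rw [index_comap_of_surjective _ (show Function.Surjective φ.toMonoidHom from φ.surjective)]
  exact hH

theorem exists_field_iso (F : Type*) [Field F] [Fintype F] (hF : Fintype.card F = 3) :
    Nonempty (Concrete.P0 ≃* Cfsg.PSp 2 F) := by
  haveI : Fact (Nat.Prime 3) := ⟨Nat.prime_three⟩
  let ψ : ZMod 3 ≃+* F := FiniteField.ringEquivOfCardEq (by rw [hF, ZMod.card])
  let f : Matrix.symplecticGroup (Fin 2) (ZMod 3) ≃* Matrix.symplecticGroup (Fin 2) F :=
    { toFun := fun x => ⟨x.1.map ψ, by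
        have h := SymplecticGroup.mem_iff.1 x.2
        have hJ : (Matrix.J (Fin 2) (ZMod 3)).map ψ = Matrix.J (Fin 2) F := by
          simp [Matrix.J, Matrix.fromBlocks_map, Matrix.map_zero, Matrix.map_one, Matrix.map_neg]
        rw [SymplecticGroup.mem_iff, ← hJ, ← Matrix.transpose_map, ← Matrix.map_mul, ← Matrix.map_mul, h]⟩
      invFun := fun y => ⟨y.1.map ψ.symm, by
        have h := SymplecticGroup.mem_iff.1 y.2
        have hJ : (Matrix.J (Fin 2) F).map ψ.symm = Matrix.J (Fin 2) (ZMod 3) := by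
          simp [Matrix.J, Matrix.fromBlocks_map, Matrix.map_zero, Matrix.map_one, Matrix.map_neg]
        rw [SymplecticGroup.mem_iff, ← hJ, ← Matrix.transpose_map, ← Matrix.map_mul, ← Matrix.map_mul, h]⟩
      left_inv := fun x => Subtype.ext (by ext i j; simp)
      right_inv := fun y => Subtype.ext (by ext i j; simp)
      map_mul' := fun x y => Subtype.ext (by
        show (x.1 * y.1).map ψ = _
        rw [Matrix.map_mul]
        rfl) }
  refine ⟨QuotientGroup.congr _ _ f ?_⟩
  ext y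
  constructor
  · rintro ⟨x, hx, rfl⟩
    refine Subgroup.mem_center_iff.2 fun g => ?_
    obtain ⟨g', rfl⟩ := f.surjective g
    show f g' * f x = f x * f g'
    rw [← map_mul, ← map_mul, Subgroup.mem_center_iff.1 hx g']
  · intro hy
    obtain ⟨x, rfl⟩ := f.surjective y
    refine ⟨x, Subgroup.mem_center_iff.2 fun g => f.injective ?_, rfl⟩
    rw [map_mul, map_mul]
    exact Subgroup.mem_center_iff.1 hy _

end CfsgLib.PSpFourInvol
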