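import Mathlib

/-!
# A coded model of the centraliser of a central involution of `PSp₄(3)`

`W` is `(SL₂(3) × SL₂(3)) ⋊ 2`; the centraliser is its quotient by the diagonal centre `z`.
-/

set_option autoImplicit false

namespace CfsgLib.PSpFourInvol

/-- Codes of the elements of `SL₂(3)`: `0` is the identity and `1` the central involution. -/
abbrev S : Type := Fin 24

/-- The multiplication table, five bits an entry. -/
def mulBits : ℕ := 0x8dd5122442aa27050cdb426963d77891f71a6823ae0644caea864053596809b620263330254c8efbc6885b95534d0782cb648eef24582035520d5d42c9260b0f5012cd14143439748ddf33d0058a8d740aae185644bd93859b26296f6b92094e95b5c302086531d1152d8d73c08a4a77ada2110c8729930136040586a099922a6a78d2ee42e6f23e234dc4c81d73322c50caad02a8e1b8224548b89554382e684ecf4b24d41a6b3c1c51dd248bc54501a1acacc01e8a2c5a6155030b892625f0b4eeb4964c305e725802834735a1d1bd2aaaded2a4c31735eb5310029cc311209b56f3952016bdca62c09314e220e286c040b1153604c9915f5a5e2b7206770468a8972544a0a1db79da0c7a4867c489b8d945c0e8999d69542a68045a00f1516edaa04170e4b7b1369c0c4924a161aafb009068a6a72d17a44e39a0d059eceba4717928c6a815904a25b14e7b5099d256bd6111904639401bdab49ca307b9ac5a928398a418820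

/-- The inversion table, five bits an entry. -/
def invBits : ℕ := 0x592477d61198d46bb509a305671420

/-- Multiplication of codes. -/
def sm (a b : S) : S :=
  ⟨((mulBits >>> (5 * (24 * a.val + b.val))) &&& 31) % 24, Nat.mod_lt _ (by norm_num)⟩

/-- Inversion of codes. -/
def si (a : S) : S := ⟨((invBits >>> (5 * a.val)) &&& 31) % 24, Nat.mod_lt _ (by norm_num)⟩

theorem sm_assoc : ∀ a b c : S, sm (sm a b) c = sm a (sm b c) := by decide +kernel

theorem sm_one : ∀ a : S, sm 0 a = a ∧ sm a 0 = a ∧ sm (si a) a = 0 := by decide +kernel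

/-- Elements of the cover. -/
@[ext] structure W where
  /-- first coordinate -/
  x : S
  /-- second coordinate -/
  y : S
  /-- swap -/
  b : Bool
  deriving DecidableEq

/-- The carrier. -/
def W.equiv : W ≃ S × S × Bool where
  toFun w := (w.x, w.y, w.b)
  invFun p := ⟨p.1, p.2.1, p.2.2⟩
  left_inv _ := rfl
  right_inv _ := rfl

instance : Fintype W := Fintype.ofEquiv _ W.equiv.symm

/-- Multiplication. -/
def wm (g h : W) : W :=
  if g.b then ⟨sm g.x h.y, sm g.y h.x, !h.b⟩ else ⟨sm g.x h.x, sm g.y h.y, h.b⟩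

/-- Inversion. -/
def wi (g : W) : W := if g.b then ⟨si g.y, si g.x, true⟩ else ⟨si g.x, si g.y, false⟩

instance : Mul W := ⟨wm⟩
instance : One W := ⟨⟨0, 0, false⟩⟩
instance : Inv W := ⟨wi⟩

theorem wm_assoc (f g h : W) : wm (wm f g) h = wm f (wm g h) := by
  rcases f with ⟨a, b, _ | _⟩ <;> rcases g with ⟨c, d, _ | _⟩ <;> rcases h with ⟨e, k, _ | _⟩ <;>
    simp [wm, sm_assoc]

instance : Group W := Group.ofLeftAxioms wm_assoc
  (fun ⟨a, b, c⟩ => show wm ⟨0, 0, false⟩ ⟨a, b, c⟩ = _ by simp [wm, (sm_one a).1, (sm_one b).1])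
  (fun ⟨a, b, c⟩ => show wm (wi ⟨a, b, c⟩) ⟨a, b, c⟩ = (⟨0, 0, false⟩ : W) by
    cases c <;> simp [wm, wi, (sm_one a).2.2, (sm_one b).2.2])

/-- The diagonal central involution, trivial in the centraliser. -/
def z : W := ⟨1, 1, false⟩

/-- The central involution of the centraliser. -/
def tW : W := ⟨1, 0, false⟩

/-- Equality modulo `z`. -/
def eqz (a b : W) : Bool := a == b || a == wm z b

/-- Codes of all elements. -/
def code (n : ℕ) : W :=
  ⟨⟨n / 48 % 24, Nat.mod_lt _ (by norm_num)⟩, ⟨n / 2 % 24, Nat.mod_lt _ (by norm_num)⟩, n % 2 == 1⟩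

/-- All elements. -/
def allW : List W := (List.range 1152).map code

/-- One element of each class modulo `z`. -/
def allC : List W := allW.filter fun a => a.x.val < (wm z a).x.val

theorem mem_allW (w : W) : w ∈ allW := by
  refine List.mem_map.2 ⟨w.x.val * 48 + w.y.val * 2 + w.b.toNat, List.mem_range.2 ?_, ?_⟩
  · have := w.x.isLt; have := w.y.isLt; have := w.b.toNat_le; omega
  · rcases w with ⟨a, b, _ | _⟩ <;> simp only [code, Bool.toNat_false, Bool.toNat_true] <;>
      refine W.ext (Fin.ext ?_) (Fin.ext ?_) ?_ <;> simp <;> omega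

end CfsgLib.PSpFourInvol
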