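import Cfsg.Agent.PSpFourInvol.Fusion
import Cfsg.Agent.LocalB.OddSignalizer

/-!
# The automiser of `E` and the two classes of involutions
-/

set_option autoImplicit false
set_option linter.style.haveILetI false
set_option linter.unusedSectionVars false

namespace CfsgLib.PSpFourInvol

open Subgroup

theorem app_one (m : Map4) : app m 1 = m.1 := by
  show (m.1 ^^^ 0) ^^^ (0 ^^^ 0) = m.1
  simp

namespace Setup

variable {G : Type*} [Group G] [Finite G] (D : Setup G)

theorem nE_vec {a : W} (ha : a ∈ allC) (h : nE a = true) {i : ℕ} (hi : i < 16) :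
    D.ι a * D.v i * (D.ι a)⁻¹ ∈ D.E := by
  rw [v, ← D.cj_eq]
  exact D.ι_mem_E (List.all_eq_true.1 (imp_or (List.all_eq_true.1 nE_conj a ha) h) i (List.mem_range.2 hi))

theorem nE_mem {a : W} (ha : a ∈ allC) (h : nE a = true) : D.ι a ∈ normalizer (D.E : Set G) := by
  refine D.mem_normalizer_of_le_T ?_
  rintro x ⟨i, hi, rfl⟩
  obtain ⟨j, hj, e⟩ := D.nE_vec ha h hi
  rw [← e]
  exact D.v_mem_T hj

theorem inE_of_mem {a : W} (h : D.ι a ∈ D.E) : inE a = true := by
  obtain ⟨i, hi, e⟩ := h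
  have h1 : ((List.range 16).find? fun k => eqz (vec k) a).isSome :=
    List.find?_isSome.2 ⟨i, List.mem_range.2 hi, D.ι_eq_iff.1 e⟩
  obtain ⟨k, hk⟩ := Option.isSome_iff_exists.1 h1
  have := List.mem_range.1 (List.mem_of_find?_eq_some hk)
  simpa [inE, idx, hk] using this

theorem nE_of_mem {a : W} (h : D.ι a ∈ normalizer (D.E : Set G)) : nE a = true := by
  have key : ∀ {i}, i < 16 → inE (cj a (vec i)) = true := fun hi => D.inE_of_mem (by
    rw [D.cj_eq]
    exact (mem_normalizer_iff.1 h _).1 (D.v_mem hi))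
  rw [nE, key (by norm_num), key (by norm_num), key (by norm_num), key (by norm_num)]
  rfl

/-- The maps on indices induced by the normaliser. -/
def maps : Set Map4 := {m | (m.1 < 16 ∧ m.2.1 < 16 ∧ m.2.2.1 < 16 ∧ m.2.2.2 < 16) ∧
  ∃ n ∈ normalizer (D.E : Set G), n * D.v 1 * n⁻¹ = D.v m.1 ∧ n * D.v 2 * n⁻¹ = D.v m.2.1 ∧
    n * D.v 4 * n⁻¹ = D.v m.2.2.1 ∧ n * D.v 8 * n⁻¹ = D.v m.2.2.2}

theorem v_conj {n : G} {m : Map4} (hb : m.1 < 16 ∧ m.2.1 < 16 ∧ m.2.2.1 < 16 ∧ m.2.2.2 < 16)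
    (h1 : n * D.v 1 * n⁻¹ = D.v m.1) (h2 : n * D.v 2 * n⁻¹ = D.v m.2.1)
    (h4 : n * D.v 4 * n⁻¹ = D.v m.2.2.1) (h8 : n * D.v 8 * n⁻¹ = D.v m.2.2.2) {k : ℕ} (hk : k < 16) :
    n * D.v k * n⁻¹ = D.v (app m k) := by
  obtain ⟨b1, b2, b3, b4⟩ := hb
  have key : ∀ {a b a' b' : ℕ}, a < 16 → b < 16 → a' < 16 → b' < 16 → n * D.v a * n⁻¹ = D.v a' →
      n * D.v b * n⁻¹ = D.v b' → n * D.v (a ^^^ b) * n⁻¹ = D.v (a' ^^^ b') := by
    intro a b a' b' ha hb ha' hb' e e'
    rw [← D.v_mul ha hb, ← D.v_mul ha' hb', ← e, ← e']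
    group
  have hz : n * D.v 0 * n⁻¹ = D.v 0 := by rw [D.v_zero, mul_one, mul_inv_cancel]
  have hk' := eq_of_beq (List.all_eq_true.1 basis_xor k (List.mem_range.2 hk))
  conv_lhs => rw [← hk']
  unfold app
  refine key ?_ ?_ ?_ ?_ (key ?_ ?_ ?_ ?_ ?_ ?_) (key ?_ ?_ ?_ ?_ ?_ ?_) <;>
    first
      | (refine xor_lt ?_ ?_ <;> split_ifs <;> first | assumption | norm_num)
      | (split_ifs <;> first | assumption | norm_num)

theorem maps_conj {m : Map4} (hm : m ∈ D.maps) : ∃ n ∈ normalizer (D.E : Set G),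
    ∀ k < 16, n * D.v k * n⁻¹ = D.v (app m k) := by
  obtain ⟨hb, n, hn, h1, h2, h4, h8⟩ := hm
  exact ⟨n, hn, fun k hk => D.v_conj hb h1 h2 h4 h8 hk⟩

theorem exists_map {n : G} (hn : n ∈ normalizer (D.E : Set G)) :
    ∃ m ∈ D.maps, ∀ k < 16, n * D.v k * n⁻¹ = D.v (app m k) := by
  have key : ∀ {i}, i < 16 → ∃ j, j < 16 ∧ D.v j = n * D.v i * n⁻¹ := fun hi =>
    (mem_normalizer_iff.1 hn _).1 (D.v_mem hi)
  obtain ⟨a, ha, ea⟩ := key (i := 1) (by norm_num)
  obtain ⟨b, hb, eb⟩ := key (i := 2) (by norm_num)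
  obtain ⟨c, hc, ec⟩ := key (i := 4) (by norm_num)
  obtain ⟨d, hd, ed⟩ := key (i := 8) (by norm_num)
  exact ⟨(a, b, c, d), ⟨⟨ha, hb, hc, hd⟩, n, hn, ea.symm, eb.symm, ec.symm, ed.symm⟩,
    fun k hk => D.v_conj (m := (a, b, c, d)) ⟨ha, hb, hc, hd⟩ ea.symm eb.symm ec.symm ed.symm hk⟩

theorem exists_p {p : Map4} (hp : p ∈ pList) : p ∈ D.maps := by
  obtain ⟨a, ha, e⟩ := List.any_eq_true.1 (List.all_eq_true.1 pmap_surj p hp)
  rw [Bool.and_eq_true, beq_iff_eq] at e
  obtain ⟨e, ep⟩ := e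
  have hb := imp_or (List.all_eq_true.1 pmap_range a ha) e
  simp only [Bool.and_eq_true, decide_eq_true_eq] at hb
  rw [← ep]
  have hv : ∀ {i}, i < 16 → D.ι a * D.v i * (D.ι a)⁻¹ = D.v (idx (cj a (vec i))) := fun hi => by
    rw [(D.v_idx (List.all_eq_true.1 (imp_or (List.all_eq_true.1 nE_conj a ha) e) _
      (List.mem_range.2 hi))).2, D.cj_eq, v]
  exact ⟨⟨hb.1.1.1, hb.1.1.2, hb.1.2, hb.2⟩, D.ι a, D.nE_mem ha e, hv (by norm_num), hv (by norm_num),
    hv (by norm_num), hv (by norm_num)⟩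

theorem mapSys : MapSys D.maps where
  base _ hp := D.exists_p hp
  mul g hg h hh := by
    obtain ⟨n, hn, en⟩ := D.maps_conj hg
    obtain ⟨hb, n', hn', h1, h2, h4, h8⟩ := hh
    have hgb := hg.1
    refine ⟨⟨app_lt g hgb _, app_lt g hgb _, app_lt g hgb _, app_lt g hgb _⟩, n * n', mul_mem hn hn', ?_⟩
    have key : ∀ {i j}, j < 16 → n' * D.v i * n'⁻¹ = D.v j →
        n * n' * D.v i * (n * n')⁻¹ = D.v (app g j) := by
      intro i j hj e
      rw [show n * n' * D.v i * (n * n')⁻¹ = n * (n' * D.v i * n'⁻¹) * n⁻¹ by group, e, en j hj]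
    exact ⟨key hb.1 h1, key hb.2.1 h2, key hb.2.2.1 h4, key hb.2.2.2 h8⟩
  bound g hg := hg.1
  inj g hg := by
    obtain ⟨n, hn, en⟩ := D.maps_conj hg
    rw [inj4, List.all_eq_true]
    intro k hk
    rw [Bool.or_eq_true, beq_iff_eq, Bool.not_eq_true', beq_eq_false_iff_ne]
    by_cases hk0 : k = 0
    · exact Or.inl hk0
    · refine Or.inr fun e => hk0 ?_
      have h1 := en k (List.mem_range.1 hk)
      rw [e, D.v_zero, mul_inv_eq_one, mul_eq_left] at h1
      exact D.v_inj (List.mem_range.1 hk) (by norm_num) (h1.trans D.v_zero.symm)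
  stab g hg h := by
    obtain ⟨hb, n, hn, h1, h2, h4, h8⟩ := hg
    rw [h, D.v_one] at h1
    obtain ⟨a, rfl⟩ := (D.range n).1 (mul_inv_eq_iff_eq_mul.1 h1)
    obtain ⟨b, hb', e⟩ := D.exists_rep a
    rw [e] at hn h1 h2 h4 h8
    have hnb := D.nE_of_mem hn
    have hin := imp_or (List.all_eq_true.1 pmap_mem b hb') hnb
    rw [inList, List.any_eq_true] at hin
    obtain ⟨p, hp, ep⟩ := hin
    have hv : ∀ {i j}, i < 16 → j < 16 → D.ι b * D.v i * (D.ι b)⁻¹ = D.v j → j = idx (cj b (vec i)) := by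
      intro i j hi hj e'
      have hin2 := List.all_eq_true.1 (imp_or (List.all_eq_true.1 nE_conj b hb') hnb) _ (List.mem_range.2 hi)
      refine D.v_inj hj (D.v_idx hin2).1 ?_
      rw [(D.v_idx hin2).2, D.cj_eq, ← e', v]
    have hpg : pmap4 b = g := by
      obtain ⟨g1, g2, g3, g4⟩ := g
      simp only at h hb h2 h4 h8
      rw [pmap4, ← hv (i := 1) (j := 1) (by norm_num) (by norm_num) (by rw [D.v_one]; exact h1),
        ← hv (by norm_num) hb.2.1 h2,
        ← hv (by norm_num) hb.2.2.1 h4, ← hv (by norm_num) hb.2.2.2 h8, h]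
    rw [← hpg, ← eq_of_beq ep]
    exact hp

theorem exists_outside (hG : ∀ H : Subgroup G, H.index ≠ 2) :
    ∃ g : G, Commute D.t (g * D.t * g⁻¹) ∧ g * D.t * g⁻¹ ≠ D.t := by
  classical
  by_contra hcon
  push Not at hcon
  have hiso : Cfsg.IsIsolatedInvolution D.t := ⟨D.ord_t, hcon⟩
  obtain ⟨N, hN, hodd, hcomm⟩ := ZStar.zstar hiso
  haveI := hN
  let C₀ : Subgroup G := ((⟨⟨⟨{w : W | w.b = false}, fun {a b} ha hb => by
      show (wm a b).b = false
      simp only [Set.mem_setOf_eq] at ha hb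
      simp [wm, ha, hb]⟩, rfl⟩, fun {a} ha => by
      show (wi a).b = false
      simp only [Set.mem_setOf_eq] at ha
      simp [wi, ha]⟩ : Subgroup W)).map D.ι
  have hGNC : ∀ g : G, ∃ o ∈ N, ∃ a, g = o * D.ι a := by
    intro g
    obtain ⟨v, hv, hc⟩ := LocalB.exists_fixed_lift hodd D.t_sq (hcomm g)
    obtain ⟨a, ha⟩ := (D.range v).1 hc.symm
    exact ⟨(v * g⁻¹)⁻¹, inv_mem hv, a, by rw [ha]; group⟩
  set r : W := ⟨0, 0, true⟩
  have hC₀ : ∀ a : W, D.ι a ∈ N ⊔ C₀ ∨ D.ι (a * r) ∈ N ⊔ C₀ := by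
    intro a
    cases hb : a.b with
    | false => exact Or.inl (mem_sup_right ⟨a, hb, rfl⟩)
    | true => exact Or.inr (mem_sup_right ⟨a * r, by show (wm a r).b = false; simp [wm, r, hb], rfl⟩)
  have hnot : D.ι r ∉ N ⊔ C₀ := by
    intro h
    rw [← SetLike.mem_coe, Subgroup.normal_mul] at h
    obtain ⟨o, ho, c, ⟨w, hw, rfl⟩, e⟩ := h
    have ho' : o = D.ι (r * w⁻¹) := by rw [map_mul, map_inv, ← e]; group
    set q := r * w⁻¹
    have hq : q.b = true := by
      show (wm r (wi w)).b = true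
      have : w.b = false := hw
      simp [wm, wi, r, this]
    have hoo : Odd (orderOf o) := hodd.of_dvd_nat (orderOf_dvd_natCard _ ho)
    have hpow : ∀ n : ℕ, (q ^ n).b = decide (Odd n) := by
      intro n
      induction n with
      | zero => simp; rfl
      | succ n ih =>
        rw [pow_succ]
        show (wm (q ^ n) q).b = _
        by_cases hn : Odd n <;> simp [wm, ih, hn, hq, Nat.odd_add_one]
    obtain ⟨n, hn⟩ := hoo
    have h1 : D.ι (q ^ (2 * n + 1)) = 1 := by rw [map_pow, ← ho', ← hn, pow_orderOf_eq_one]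
    rcases (D.ker _).1 h1 with e' | e' <;>
    · have := congrArg W.b e'
      rw [hpow] at this
      simp [z, show (1 : W).b = false from rfl] at this
  refine hG (N ⊔ C₀) (index_eq_two_iff.2 ⟨D.ι r, fun b => ?_⟩)
  obtain ⟨o, ho, a, rfl⟩ := hGNC b
  have hmem : ∀ x : G, o * x ∈ N ⊔ C₀ ↔ x ∈ N ⊔ C₀ := fun x => mul_mem_cancel_left (mem_sup_left ho)
  rw [mul_assoc, hmem, hmem, ← map_mul]
  rcases hC₀ a with h | h
  · refine Or.inr ⟨h, fun h' => hnot ?_⟩
    rw [map_mul] at h'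
    exact (mul_mem_cancel_left h).1 h'
  · refine Or.inl ⟨h, fun h' => hnot ?_⟩
    rw [map_mul] at h
    exact (mul_mem_cancel_left h').1 h

include D in
theorem isTs_iff {a : W} : isTs a = true ↔ ∃ x ∈ tList, D.ι x = D.ι a := by
  simp only [isTs, List.any_eq_true, D.ι_eq_iff]

include D in
theorem isTs_conj {a c : W} (h : isTs a = true) : isTs (cj c a) = true := by
  obtain ⟨x, hx, e⟩ := D.isTs_iff.1 h
  obtain ⟨c', hc', e'⟩ := D.exists_rep c
  have := List.all_eq_true.1 t_list_closed x hx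
  rw [Bool.and_eq_true, List.all_eq_true] at this
  obtain ⟨y, hy, e''⟩ := D.isTs_iff.1 (this.2 c' hc')
  exact D.isTs_iff.2 ⟨y, hy, by rw [e'', D.cj_eq, D.cj_eq, e, e']⟩

include D in
theorem isTs_vec {k : ℕ} (hk : k < 16) : isTs (vec k) = true ↔ k ∈ [1, 8, 11, 13, 15] := by
  rw [eq_of_beq (List.all_eq_true.1 vec_types k (List.mem_range.2 hk))]
  simp

theorem invol_cases {a : W} (ha : orderOf (D.ι a) = 2) :
    ∃ k ∈ [1, 2, 8, 9], (∃ c, D.ι c * D.ι a * (D.ι c)⁻¹ = D.v k) ∧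
      (isTs a = true ↔ k = 1 ∨ k = 8) := by
  obtain ⟨k, hk, h⟩ := List.any_eq_true.1 (imp_or (List.all_eq_true.1 invol_reps a (mem_allW a)) (D.inv_iff.1 ha))
  obtain ⟨c, -, e⟩ := List.any_eq_true.1 h
  have hcv : D.ι (cj c a) = D.v k := D.ι_eq_iff.2 e
  have hk16 : k < 16 := by fin_cases hk <;> norm_num
  refine ⟨k, hk, ⟨c, by rw [← D.cj_eq]; exact hcv⟩, ?_⟩
  constructor
  · intro ht
    obtain ⟨x, hx, e'⟩ := D.isTs_iff.1 (D.isTs_conj (c := c) ht)
    have := (D.isTs_vec hk16).1 (D.isTs_iff.2 ⟨x, hx, e'.trans hcv⟩)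
    fin_cases hk <;> simp at this ⊢
  · intro hk'
    obtain ⟨x, hx, e'⟩ := D.isTs_iff.1 ((D.isTs_vec hk16).2 (by rcases hk' with rfl | rfl <;> simp))
    obtain ⟨y, hy, e''⟩ := D.isTs_iff.1 (D.isTs_conj (c := c⁻¹) (D.isTs_iff.2 ⟨x, hx, e'⟩))
    refine D.isTs_iff.2 ⟨y, hy, ?_⟩
    rw [e'', D.cj_eq, ← v, ← hcv, D.cj_eq, map_inv]
    group

/-- `t` is fused in `E` as in `PSp₄(3)`. -/
def Good : Prop := ∃ m ∈ D.maps, m.1 = 8

/-- The flipped cover. -/
def flip : Setup G where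
  ι :=
    { toFun := fun w => if w.b then D.ι w * D.t else D.ι w
      map_one' := by simp [show (1 : W).b = false from rfl]
      map_mul' := fun a b => by
        have hb : (a * b).b = xor a.b b.b := by
          show (wm a b).b = _
          cases ha : a.b <;> cases hb' : b.b <;> simp [wm, ha, hb']
        rw [hb, map_mul]
        cases a.b <;> cases b.b <;> simp only [Bool.false_xor, Bool.true_xor, Bool.not_false, Bool.not_true,
          Bool.false_eq_true, if_false, if_true]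
        · group
        · rw [mul_assoc, mul_assoc, D.ι_comm_t b]
        · rw [show D.ι a * D.t * (D.ι b * D.t) = D.ι a * ((D.t * D.ι b) * D.t) by group, ← D.ι_comm_t b,
            show D.ι b * D.t * D.t = D.ι b * (D.t * D.t) by group, D.t_sq, mul_one] }
  ker w := by
    show (if w.b then D.ι w * D.t else D.ι w) = 1 ↔ _
    cases hb : w.b with
    | false => simpa using D.ker w
    | true =>
      simp only [if_true]
      constructor
      · intro h
        exfalso
        have hh : D.ι w = D.ι tW⁻¹ := by rw [map_inv]; exact eq_inv_of_mul_eq_one_left h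
        have h2 := D.ι_eq_iff.1 hh
        rw [eqz, Bool.or_eq_true, beq_iff_eq, beq_iff_eq] at h2
        rcases h2 with e | e <;>
        · have := congrArg W.b e
          rw [hb] at this
          exact Bool.false_ne_true this.symm
      · rintro (rfl | rfl) <;> exact Bool.noConfusion hb
  range g := by
    show g * (if tW.b then D.ι tW * D.t else D.ι tW) = (if tW.b then D.ι tW * D.t else D.ι tW) * g ↔ _
    rw [if_neg (show ¬ tW.b = true from Bool.false_ne_true)]
    constructor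
    · intro h
      obtain ⟨a, rfl⟩ := (D.range g).1 h
      cases hb : a.b with
      | false => exact ⟨a, by show (if a.b then _ else _) = _; rw [hb]; rfl⟩
      | true =>
        refine ⟨a * tW, ?_⟩
        show (if (wm a tW).b then D.ι (a * tW) * D.t else D.ι (a * tW)) = _
        rw [show (wm a tW).b = true by simp [wm, hb, tW], if_pos rfl, map_mul, mul_assoc,
          show D.ι tW * D.t = D.t * D.t from rfl, D.t_sq, mul_one]
    · rintro ⟨a, rfl⟩
      show (if a.b then D.ι a * D.t else D.ι a) * D.t = D.t * (if a.b then D.ι a * D.t else D.ι a)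
      split_ifs
      · rw [← mul_assoc, ← D.ι_comm_t]
      · exact D.ι_comm_t a

theorem flip_v {k : ℕ} (hk : k < 16) :
    D.flip.v k = D.v (if k.testBit 3 then k ^^^ 1 else k) := by
  show (if (vec k).b then D.ι (vec k) * D.t else D.ι (vec k)) = _
  have := D.ι_eq_iff.2 (List.all_eq_true.1 flip_vec k (List.mem_range.2 hk))
  rw [v, this]
  split_ifs
  · exact (map_mul D.ι _ _).symm
  · rfl

theorem flip_E : D.flip.E = D.E := by
  have hlt : ∀ k, k < 16 → (if k.testBit 3 then k ^^^ 1 else k) < 16 := fun k hk => by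
    split_ifs
    · exact xor_lt hk (by norm_num)
    · exact hk
  refine eq_of_le_of_card_ge ?_ (by rw [card_E, card_E])
  rintro g ⟨k, hk, rfl⟩
  rw [D.flip_v hk]
  exact D.v_mem (hlt k hk)

include D in
theorem exists_good (hG : ∀ H : Subgroup G, H.index ≠ 2) : ∃ D' : Setup G, D'.Good := by
  obtain ⟨g, hc, hne⟩ := D.exists_outside hG
  obtain ⟨a, ha⟩ := (D.range _).1 hc.symm.eq
  obtain ⟨k, hk, ⟨c, hc'⟩, -⟩ := D.invol_cases (a := a) (by rw [ha, Invol.orderOf_conj_eq]; exact D.ord_t)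
  have hk16 : k < 16 := by fin_cases hk <;> norm_num
  have hk1 : k ≠ 1 := by
    rintro rfl
    apply hne
    rw [← ha]
    rw [D.v_one, mul_inv_eq_iff_eq_mul, ← D.ι_comm_t c] at hc'
    exact mul_left_cancel hc'
  have hg' : (D.ι c * g) * D.v 1 * (D.ι c * g)⁻¹ = D.v k := by
    rw [D.v_one, ← hc', ha]
    group
  obtain ⟨n, hn, en⟩ := D.control (D.v_mem (i := 1) (by norm_num)) (g := D.ι c * g) (hg' ▸ D.v_mem hk16)
  obtain ⟨m, hm, em⟩ := D.exists_map hn
  have hm1 : m.1 = k := by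
    refine D.v_inj hm.1.1 hk16 ?_
    rw [← hg', ← en, em 1 (by norm_num)]
    rw [app_one]
  have hk0 : k ≠ 0 := by fin_cases hk <;> norm_num
  obtain ⟨m', hm', e⟩ := D.mapSys.move hm (hm1 ▸ hk1) (hm1 ▸ hk0)
  rw [hm1] at e
  fin_cases hk
  · exact absurd rfl hk1
  · exact absurd (by simpa using e) (D.mapSys.first_two hm')
  · exact ⟨D, m', hm', by simpa using e⟩
  · refine ⟨D.flip, ?_⟩
    obtain ⟨n', hn', en'⟩ := D.maps_conj hm'
    obtain ⟨m'', hm'', em''⟩ := D.flip.exists_map (n := n') (D.flip_E ▸ hn')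
    refine ⟨m'', hm'', D.flip.v_inj hm''.1.1 (by norm_num) ?_⟩
    have e1 := em'' 1 (by norm_num)
    rw [D.flip_v (by norm_num : (1 : ℕ) < 16)] at e1
    have e2 := en' 1 (by norm_num)
    rw [app_one m', show m'.1 = 9 by simpa using e] at e2
    rw [app_one m''] at e1
    rw [← e1, D.flip_v (by norm_num : (8 : ℕ) < 16)]
    exact e2

variable {D} (hD : D.Good)
include hD

theorem orbit_mem {n : G} (hn : n ∈ normalizer (D.E : Set G)) :
    ∃ k ∈ [1, 8, 11, 13, 15], n * D.t * n⁻¹ = D.v k := by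
  obtain ⟨m, hm, em⟩ := D.exists_map hn
  obtain ⟨m8, hm8, e8⟩ := hD
  have e1 := em 1 (by norm_num)
  rw [D.v_one, app_one m] at e1
  refine ⟨m.1, ?_, e1⟩
  by_contra hcon
  have hm0 : m.1 ≠ 0 := by
    intro e
    have := D.mapSys.inj m hm
    rw [inj4, List.all_eq_true] at this
    simpa [app_one, e] using this 1 (List.mem_range.2 (by norm_num))
  obtain ⟨m', hm', e⟩ := D.mapSys.move hm (fun e => hcon (by simp [e])) hm0
  by_cases h9 : [9, 10, 12, 14].contains m.1 = true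
  · have h8 : [8, 11, 13, 15].contains m.1 = false := by
      simp only [List.mem_cons, List.not_mem_nil, or_false, not_or] at hcon
      simp [hcon]
    rw [h8, h9] at e
    exact D.mapSys.not_mixed hm8 hm' e8 e
  · have h8 : [8, 11, 13, 15].contains m.1 = false := by
      simp only [List.mem_cons, List.not_mem_nil, or_false, not_or] at hcon
      simp [hcon]
    rw [h8, if_neg Bool.false_ne_true, if_neg h9] at e
    exact D.mapSys.first_two hm' e

theorem exists_to {k : ℕ} (hk : k ∈ [1, 8, 11, 13, 15]) :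
    ∃ n ∈ normalizer (D.E : Set G), n * D.t * n⁻¹ = D.v k := by
  by_cases hk1 : k = 1
  · exact ⟨1, one_mem _, by rw [hk1, D.v_one]; group⟩
  obtain ⟨m8, hm8, e8⟩ := hD
  obtain ⟨n, hn, en⟩ := D.maps_conj hm8
  have hk' : k ∈ [2, 3, 4, 5, 6, 7, 8, 9, 10, 11, 12, 13, 14, 15] := by
    fin_cases hk <;> simp at hk1 ⊢
  obtain ⟨p, hp, e⟩ := List.any_eq_true.1 (List.all_eq_true.1 check_orbits k hk')
  obtain ⟨q, hq, eq'⟩ := D.maps_conj (D.exists_p hp)
  have e' : app p k = 8 := by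
    have := eq_of_beq e
    fin_cases hk <;> first | exact absurd rfl hk1 | simpa using this
  have hk16 : k < 16 := by fin_cases hk <;> norm_num
  refine ⟨q⁻¹ * n, mul_mem (inv_mem hq) hn, ?_⟩
  have e1 := en 1 (by norm_num)
  rw [D.v_one, app_one m8, e8] at e1
  have e2 := eq' k hk16
  rw [e'] at e2
  rw [show q⁻¹ * n * D.t * (q⁻¹ * n)⁻¹ = q⁻¹ * (n * D.t * n⁻¹) * q by group, e1, ← e2]
  group

theorem isConj_iff_isTs {a : W} (ha : orderOf (D.ι a) = 2) :
    (isTs a = true → IsConj D.t (D.ι a)) ∧ (isTs a = false → IsConj (D.v 9) (D.ι a)) := by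
  obtain ⟨k, hk, ⟨c, hc⟩, hiff⟩ := D.invol_cases ha
  have hca : IsConj (D.v k) (D.ι a) := (isConj_iff.2 ⟨D.ι c, hc⟩).symm
  constructor
  · intro h
    rcases hiff.1 h with rfl | rfl
    · rwa [D.v_one] at hca
    · obtain ⟨n, -, e⟩ := exists_to hD (k := 8) (by simp)
      exact (isConj_iff.2 ⟨n, e⟩).trans hca
  · intro h
    have hk2 : k = 2 ∨ k = 9 := by
      fin_cases hk
      · exact absurd (hiff.2 (Or.inl rfl)) (by simp [h])
      · exact Or.inl rfl
      · exact absurd (hiff.2 (Or.inr rfl)) (by simp [h])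
      · exact Or.inr rfl
    rcases hk2 with rfl | rfl
    · obtain ⟨m8, hm8, e8⟩ := id hD
      obtain ⟨n, hn, en⟩ := D.maps_conj hm8
      obtain ⟨j, hj, e⟩ := List.any_eq_true.1
        (List.all_eq_true.1 check_move m8 (D.mapSys.first_eight hm8 e8))
      rw [List.contains_iff_mem] at e
      have hj16 : j < 16 := by fin_cases hj <;> norm_num
      obtain ⟨p, hp, ep⟩ := List.any_eq_true.1 (List.all_eq_true.1 check_orbits j (by fin_cases hj <;> simp))
      obtain ⟨q, -, eq'⟩ := D.maps_conj (D.exists_p hp)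
      have e2 : app p j = 2 := by have := eq_of_beq ep; fin_cases hj <;> simpa using this
      obtain ⟨p', hp', ep'⟩ := List.any_eq_true.1 (List.all_eq_true.1 check_orbits (app m8 j)
        (by simp only [List.mem_cons, List.not_mem_nil, or_false] at e
            rcases e with e | e | e | e <;> simp [e]))
      obtain ⟨q', -, eq''⟩ := D.maps_conj (D.exists_p hp')
      have e9 : app p' (app m8 j) = 9 := by
        have := eq_of_beq ep'
        simp only [List.mem_cons, List.not_mem_nil, or_false] at e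
        rcases e with e | e | e | e <;> rw [e] at this ⊢ <;> simpa using this
      have h92 : IsConj (D.v 9) (D.v 2) := by
        refine IsConj.trans ?_ (isConj_iff.2 ⟨q, by rw [eq' j hj16, e2]⟩)
        refine (IsConj.trans (isConj_iff.2 ⟨n, en j hj16⟩) (isConj_iff.2 ⟨q', ?_⟩)).symm
        rw [eq'' _ (by simp only [List.mem_cons, List.not_mem_nil, or_false] at e
                       rcases e with e | e | e | e <;> rw [e] <;> norm_num), e9]
      exact h92.trans hca
    · exact hca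

theorem not_isConj : ¬ IsConj D.t (D.v 9) := by
  intro h
  obtain ⟨g, hg⟩ := isConj_iff.1 h
  obtain ⟨n, hn, en⟩ := D.control D.t_mem_E (g := g) (hg ▸ D.v_mem (by norm_num))
  obtain ⟨k, hk, ek⟩ := orbit_mem hD hn
  have := D.v_inj (i := k) (j := 9) (by fin_cases hk <;> norm_num) (by norm_num)
    (ek.symm.trans (en.trans hg))
  subst this
  simp at hk

end Setup

end CfsgLib.PSpFourInvol
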