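import Cfsg.Agent.PSpFourInvol.Auto

/-!
# The centraliser of an involution of the second class
-/

set_option autoImplicit false
set_option linter.style.haveILetI false
set_option linter.unusedSectionVars false

namespace CfsgLib.PSpFourInvol

open Subgroup

theorem check_swap : eightList.all (fun a => pList.any fun p => app (comp a p) 8 == 1 && (comp a p).1 == 8) =
    true := by
  decide +kernel

theorem count_cent_nine : (allC.filter fun g => comm g (vec 9)).length = 48 := by decide +kernel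

theorem count_nE : (allC.filter nE).length = 192 := by decide +kernel

theorem vec_nine : wm (vec 1) (vec 8) = wm (vec 1) ⟨0, 0, true⟩ := by decide +kernel

namespace Setup

variable {G : Type*} [Group G] [Finite G] {D : Setup G} (hD : D.Good)
include hD

theorem conj_ι_iff {a : W} (ha : orderOf (D.ι a) = 2) : IsConj D.t (D.ι a) ↔ isTs a = true := by
  refine ⟨fun h => ?_, (isConj_iff_isTs hD ha).1⟩
  by_contra hcon
  exact not_isConj hD (h.trans ((isConj_iff_isTs hD ha).2 (by simpa using hcon)).symm)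

theorem v_ord {k : ℕ} (hk : k < 16) (h0 : k ≠ 0) : orderOf (D.v k) = 2 := by
  have := List.all_eq_true.1 vec_facts k (List.mem_range.2 hk)
  rw [Bool.and_eq_true, Bool.or_eq_true, beq_iff_eq] at this
  exact D.inv_iff.2 (this.2.resolve_left h0)

theorem conj_v_iff {k : ℕ} (hk : k < 16) : IsConj D.t (D.v k) ↔ k ∈ [1, 8, 11, 13, 15] := by
  rcases eq_or_ne k 0 with rfl | h0
  · simp only [D.v_zero, List.mem_cons, List.not_mem_nil, or_false]
    constructor
    · intro h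
      exact absurd (isConj_one_left.1 h) (Invol.ne_one D.ord_t)
    · omega
  · rw [v, conj_ι_iff hD (v_ord hD hk h0), D.isTs_vec hk]

theorem ord_of_conj {x : G} (h : IsConj D.t x) : orderOf x = 2 := by
  obtain ⟨g, rfl⟩ := isConj_iff.1 h
  rw [Invol.orderOf_conj_eq]
  exact D.ord_t

theorem mem_E_of_mem_T {x : G} (hx : x ∈ D.T) (h : IsConj D.t x) : x ∈ D.E := by
  obtain ⟨a, ha, rfl⟩ := D.mem_T.1 hx
  have ht := (conj_ι_iff hD (ord_of_conj hD h)).1 h
  have := List.all_eq_true.1 t_in_T a (mem_allW a)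
  rw [ha, ht] at this
  exact D.ι_mem_E (by simpa using this)

theorem mem_E_of_mem_normalizer {x : G} (hx : x ∈ normalizer (D.E : Set G)) (h : IsConj D.t x) :
    x ∈ D.E := by
  haveI : Fact (Nat.Prime 2) := ⟨Nat.prime_two⟩
  have hp : IsPGroup 2 (zpowers x : Subgroup G) :=
    IsPGroup.of_card (n := 1) (by rw [Nat.card_zpowers, ord_of_conj hD h, pow_one])
  have hsup : IsPGroup 2 (zpowers x ⊔ D.E : Subgroup G) :=
    hp.to_sup_of_normal_right' D.isPGroup_E (zpowers_le.2 hx)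
  obtain ⟨P, hP⟩ := hsup.exists_le_sylow
  obtain ⟨S, hS⟩ := D.exists_sylow
  obtain ⟨k, hk⟩ := MulAction.exists_smul_eq G P S
  have hkR : ∀ y ∈ zpowers x ⊔ D.E, k * y * k⁻¹ ∈ D.T := fun y hy => by
    rw [← hS, ← hk]
    exact ⟨y, hP hy, rfl⟩
  have hkN := D.mem_normalizer_of_le_T fun e he => hkR e (mem_sup_right he)
  have := mem_E_of_mem_T hD (hkR x (mem_sup_left (mem_zpowers x)))
    (h.trans (isConj_iff.2 ⟨k, rfl⟩))
  exact (mem_normalizer_iff.1 hkN x).2 this

theorem cent_le_normalizer {x e g : G} (hx : x ∈ D.E) (hxt : IsConj D.t x) (he : e ∈ D.E) (he1 : e ≠ 1)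
    (het : ¬ IsConj D.t e) (hgx : g * x = x * g) (hge : g * e = e * g) : g ∈ normalizer (D.E : Set G) := by
  obtain ⟨c, hc⟩ := isConj_iff.1 hxt
  obtain ⟨n, hn, en⟩ := D.control D.t_mem_E (g := c) (hc ▸ hx)
  rw [hc] at en
  obtain ⟨j, hj, ej⟩ := (mem_normalizer_iff.1 (inv_mem hn) e).1 he
  rw [inv_inv] at ej
  have hnej : n * D.v j * n⁻¹ = e := by rw [ej]; group
  have hfix : n⁻¹ * g * n * D.t = D.t * (n⁻¹ * g * n) := by
    rw [show D.t = n⁻¹ * x * n by rw [← en]; group,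
      show n⁻¹ * g * n * (n⁻¹ * x * n) = n⁻¹ * (g * x) * n by group, hgx]
    group
  obtain ⟨a, ha⟩ := (D.range _).1 hfix
  obtain ⟨b, hb, hab⟩ := D.exists_rep a
  have hcm : comm b (vec j) = true := D.comm_iff.1 (by
    rw [← hab, ha, show D.ι (vec j) = n⁻¹ * e * n from ej,
      show n⁻¹ * g * n * (n⁻¹ * e * n) = n⁻¹ * (g * e) * n by group, hge]
    group)
  have hjmem : j ∈ [2, 3, 4, 5, 6, 7, 9, 10, 12, 14] := by
    have h0 : j ≠ 0 := by
      rintro rfl
      rw [D.v_zero, mul_one, mul_inv_cancel] at hnej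
      exact he1 hnej.symm
    have hnot : j ∉ [1, 8, 11, 13, 15] := fun hm =>
      het (((conj_v_iff hD hj).2 hm).trans (isConj_iff.2 ⟨n, hnej⟩))
    interval_cases j <;> simp at h0 hnot ⊢
  have := imp_or (List.all_eq_true.1 (List.all_eq_true.1 cent_u j hjmem) b hb) hcm
  have hbN := D.nE_mem hb this
  rw [← hab, ha] at hbN
  have := mul_mem (mul_mem hn hbN) (inv_mem hn)
  rwa [show n * (n⁻¹ * g * n) * n⁻¹ = g by group] at this

theorem not_conj_nine : ¬ IsConj D.t (D.v 9) := not_isConj hD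

theorem v_nine_ne : D.v 9 ≠ 1 := fun h => by
  have := v_ord hD (k := 9) (by norm_num) (by norm_num)
  rw [h, orderOf_one] at this
  omega

theorem odd_trivial {K : Subgroup G} (hK : Odd (Nat.card K)) (hcent : ∀ k ∈ K, k * D.v 9 = D.v 9 * k)
    (hnorm : D.E ≤ normalizer (K : Set G)) : K = ⊥ := by
  have hconj : ∀ {k x : G}, k ∈ K → x ∈ D.E → x * k * x⁻¹ ∈ K := fun hk hx =>
    (mem_normalizer_iff.1 (hnorm hx) _).1 hk
  have hord : ∀ {k : G}, k ∈ K → Odd (orderOf k) := fun hk =>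
    hK.of_dvd_nat (orderOf_dvd_natCard _ hk)
  have hfree : ∀ i ∈ [1, 8, 11, 13, 15], ∀ k ∈ K, k * D.v i = D.v i * k → k = 1 := by
    intro i hi k hk hc
    have hi16 : i < 16 := by fin_cases hi <;> norm_num
    have hkN := cent_le_normalizer hD (D.v_mem hi16) ((conj_v_iff hD hi16).2 hi) (D.v_mem (i := 9) (by norm_num))
      (v_nine_ne hD) (not_conj_nine hD) hc (hcent k hk)
    have hkC : ∀ e ∈ D.E, k * e = e * k := by
      intro e he
      have h1 : k * e * k⁻¹ * e⁻¹ ∈ D.E := mul_mem ((mem_normalizer_iff.1 hkN e).1 he) (inv_mem he)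
      have h2 : k * e * k⁻¹ * e⁻¹ ∈ K := by
        rw [show k * e * k⁻¹ * e⁻¹ = k * (e * k⁻¹ * e⁻¹) by group]
        exact mul_mem hk (hconj (inv_mem hk) he)
      have h3 : k * e * k⁻¹ * e⁻¹ = 1 :=
        Invol.eq_one_of_sq_eq_one_of_odd (by rw [sq]; exact D.E_sq h1) (hord h2)
      rwa [mul_inv_eq_one, mul_inv_eq_iff_eq_mul] at h3
    exact Invol.eq_one_of_sq_eq_one_of_odd (by rw [sq]; exact D.E_sq (D.cent_E_le hkC)) (hord hk)
  have hinv : ∀ i ∈ [1, 8, 11, 13, 15], ∀ k ∈ K, D.v i * k * (D.v i)⁻¹ = k⁻¹ := by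
    intro i hi k hk
    have hi16 : i < 16 := by fin_cases hi <;> norm_num
    set x := D.v i
    have hxE : x ∈ D.E := D.v_mem hi16
    have hxx : x * x = 1 := D.E_sq hxE
    have hxi : x⁻¹ = x := inv_eq_of_mul_eq_one_right hxx
    let f : K → K := fun y => ⟨(y : G)⁻¹ * (x * y * x⁻¹), mul_mem (inv_mem y.2) (hconj y.2 hxE)⟩
    have hf : Function.Injective f := by
      intro a b h
      have h' : (a : G)⁻¹ * (x * a * x⁻¹) = (b : G)⁻¹ * (x * b * x⁻¹) := congrArg Subtype.val h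
      refine Subtype.ext ?_
      have h2 : ((b : G) * (a : G)⁻¹) * x = x * ((b : G) * (a : G)⁻¹) := by
        calc (b : G) * (a : G)⁻¹ * x = (b : G) * ((a : G)⁻¹ * (x * a * x⁻¹)) * x * (a : G)⁻¹ := by group
          _ = x * ((b : G) * (a : G)⁻¹) := by rw [h']; group
      exact (mul_inv_eq_one.1 (hfree i hi _ (mul_mem b.2 (inv_mem a.2)) h2)).symm
    obtain ⟨y, hy⟩ := Finite.injective_iff_surjective.1 hf ⟨k, hk⟩
    have hy' : (y : G)⁻¹ * (x * y * x⁻¹) = k := congrArg Subtype.val hy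
    rw [← hy', hxi]
    calc x * ((y : G)⁻¹ * (x * y * x)) * x = x * (y : G)⁻¹ * x * y * (x * x) := by group
      _ = ((y : G)⁻¹ * (x * y * x))⁻¹ := by rw [hxx, mul_inv_rev, mul_inv_rev, mul_inv_rev, hxi, inv_inv]; group
  rw [eq_bot_iff_forall]
  intro k hk
  have key : ∀ {a : G} (x : G), x * a * x⁻¹ = a⁻¹ → x * a⁻¹ * x⁻¹ = a := fun {a} x h => by
    rw [show x * a⁻¹ * x⁻¹ = (x * a * x⁻¹)⁻¹ by group, h, inv_inv]
  have hprod : D.v 1 * D.v 8 * D.v 11 * D.v 13 * D.v 15 = 1 := by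
    rw [D.v_mul (by norm_num) (by norm_num), D.v_mul (by decide) (by norm_num),
      D.v_mul (by decide) (by norm_num), D.v_mul (by decide) (by norm_num)]
    exact D.v_zero
  have h5 : k⁻¹ = k := by
    calc k⁻¹ = D.v 1 * (D.v 8 * (D.v 11 * (D.v 13 * (D.v 15 * k * (D.v 15)⁻¹) * (D.v 13)⁻¹) * (D.v 11)⁻¹) *
          (D.v 8)⁻¹) * (D.v 1)⁻¹ := by
          rw [hinv 15 (by simp) k hk, key _ (hinv 13 (by simp) k hk), hinv 11 (by simp) k hk,
            key _ (hinv 8 (by simp) k hk), hinv 1 (by simp) k hk]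
      _ = (D.v 1 * D.v 8 * D.v 11 * D.v 13 * D.v 15) * k * (D.v 1 * D.v 8 * D.v 11 * D.v 13 * D.v 15)⁻¹ := by
          group
      _ = k := by rw [hprod]; group
  exact Invol.eq_one_of_sq_eq_one_of_odd (by rw [sq]; nth_rewrite 1 [← h5]; exact inv_mul_cancel k) (hord hk)

theorem v_eight_eq : D.v 1 * D.v 9 = D.v 8 := by rw [D.v_mul (by norm_num) (by norm_num)]; rfl

theorem exists_swap : ∃ m ∈ normalizer (D.E : Set G),
    m * D.t * m⁻¹ = D.v 8 ∧ m * D.v 9 = D.v 9 * m := by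
  obtain ⟨m8, hm8, e8⟩ := id hD
  obtain ⟨p, hp, e⟩ := List.any_eq_true.1 (List.all_eq_true.1 check_swap m8 (D.mapSys.first_eight hm8 e8))
  rw [Bool.and_eq_true, beq_iff_eq, beq_iff_eq] at e
  obtain ⟨n, hn, en⟩ := D.maps_conj (D.mapSys.mul _ hm8 _ (D.exists_p hp))
  have h1 := en 1 (by norm_num)
  rw [app_one, e.2] at h1
  have h8 := en 8 (by norm_num)
  rw [e.1] at h8
  refine ⟨n, hn, D.v_one ▸ h1, mul_inv_eq_iff_eq_mul.1 ?_⟩
  rw [show D.v 9 = D.v 1 * D.v 8 from ((D.v_mul (i := 1) (j := 8) (by norm_num) (by norm_num))).symm,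
    show n * (D.v 1 * D.v 8) * n⁻¹ = (n * D.v 1 * n⁻¹) * (n * D.v 8 * n⁻¹) by group, h1, h8]
  exact D.E_comm (D.v_mem (by norm_num)) (D.v_mem (by norm_num))

theorem normalizer_of_moves {g : G} (hg : g * D.v 9 = D.v 9 * g)
    (h : g * D.t * g⁻¹ = D.t ∨ g * D.t * g⁻¹ = D.v 8) : g ∈ normalizer (D.E : Set G) := by
  rcases h with h | h
  · exact cent_le_normalizer hD D.t_mem_E (IsConj.refl _) (D.v_mem (i := 9) (by norm_num)) (v_nine_ne hD)
      (not_conj_nine hD) (mul_inv_eq_iff_eq_mul.1 h) hg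
  · obtain ⟨m, hm, e1, e2⟩ := exists_swap hD
    have h1 : m⁻¹ * g * D.t = D.t * (m⁻¹ * g) := by
      refine mul_inv_eq_iff_eq_mul.1 ?_
      rw [show m⁻¹ * g * D.t * (m⁻¹ * g)⁻¹ = m⁻¹ * (g * D.t * g⁻¹) * m by group, h, ← e1]
      group
    have h2 : m⁻¹ * g * D.v 9 = D.v 9 * (m⁻¹ * g) := by
      rw [mul_assoc, hg, ← mul_assoc, ← mul_assoc,
        show D.v 9 * m⁻¹ = m⁻¹ * D.v 9 by
          rw [mul_inv_eq_iff_eq_mul, mul_assoc, ← e2]; group]
    have := cent_le_normalizer hD D.t_mem_E (IsConj.refl _) (D.v_mem (i := 9) (by norm_num)) (v_nine_ne hD)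
      (not_conj_nine hD) h1 h2
    have := mul_mem hm this
    rwa [mul_inv_cancel_left] at this

theorem moves_of_mem {g : G} (hg : g * D.v 9 = D.v 9 * g) (hy : g * D.t * g⁻¹ ∈ D.E) :
    g * D.t * g⁻¹ = D.t ∨ g * D.t * g⁻¹ = D.v 8 := by
  obtain ⟨k, hk, ek⟩ := hy
  rw [← ek]
  have hk1 : k ∈ [1, 8, 11, 13, 15] := (conj_v_iff hD hk).1 (ek ▸ isConj_iff.2 ⟨g, rfl⟩)
  have hs : D.v (k ^^^ 9) = g * D.v 8 * g⁻¹ := by
    rw [← D.v_mul hk (by norm_num), ek, ← v_eight_eq hD, D.v_one,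
      show g * (D.t * D.v 9) * g⁻¹ = g * D.t * g⁻¹ * (g * D.v 9 * g⁻¹) by group, hg, mul_inv_cancel_right]
  have hk9 : k ^^^ 9 ∈ [1, 8, 11, 13, 15] := (conj_v_iff hD (xor_lt hk (by norm_num))).1
    (((conj_v_iff hD (k := 8) (by norm_num)).2 (by simp)).trans (isConj_iff.2 ⟨g, hs.symm⟩))
  fin_cases hk1
  · exact Or.inl D.v_one
  · exact Or.inr rfl
  all_goals exact absurd hk9 (by decide)

theorem cent_nine_le : centralizer ({D.v 9} : Set G) ≤ normalizer (D.E : Set G) := by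
  classical
  haveI : Fact (Nat.Prime 2) := ⟨Nat.prime_two⟩
  set X := centralizer ({D.v 9} : Set G) with hX
  have hmemX : ∀ {g : G}, g ∈ X ↔ g * D.v 9 = D.v 9 * g := fun {g} => mem_centralizer_singleton_iff
  have h9 : D.v 9 ∈ D.E := D.v_mem (by norm_num)
  have hEX : D.E ≤ X := fun e he => hmemX.2 (D.E_comm he h9)
  let u : X := ⟨D.v 9, hEX h9⟩
  let t' : X := ⟨D.t, hEX D.t_mem_E⟩
  have hu : u ∈ Subgroup.center X := mem_center_iff.2 fun g => Subtype.ext (hmemX.1 g.2)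
  haveI hN0 : (zpowers u).Normal := ⟨fun a ha g => by
    have ha' : a ∈ Subgroup.center X := zpowers_le.2 hu ha
    rw [mem_center_iff.1 ha' g, mul_inv_cancel_right]
    exact ha⟩
  have hu2 : orderOf u = 2 := by
    rw [← orderOf_coe]
    exact v_ord hD (by norm_num) (by norm_num)
  have hmem0 : ∀ {a : X}, a ∈ zpowers u ↔ (a : G) = 1 ∨ (a : G) = D.v 9 := by
    intro a
    constructor
    · intro ha
      obtain ⟨n, rfl⟩ := mem_zpowers_iff.1 ha
      rcases Int.even_or_odd n with ⟨m, rfl⟩ | ⟨m, rfl⟩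
      · refine Or.inl ?_
        rw [← two_mul, zpow_mul, zpow_two, Invol.mul_self_eq_one hu2, one_zpow]
        rfl
      · refine Or.inr ?_
        rw [zpow_add, zpow_mul, zpow_two, Invol.mul_self_eq_one hu2, one_zpow, one_mul, zpow_one]
    · rintro (h | h)
      · rw [show a = 1 from Subtype.ext h]; exact one_mem _
      · rw [show a = u from Subtype.ext h]; exact mem_zpowers u
  set q := QuotientGroup.mk' (zpowers u)
  have ht' : t' ∉ zpowers u := by
    rw [hmem0]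
    rintro (h | h)
    · exact Invol.ne_one D.ord_t h
    · exact not_conj_nine hD (by rw [← h])
  have hiso : Cfsg.IsIsolatedInvolution (q t') := by
    refine ⟨orderOf_eq_prime ?_ ?_, fun a ha => ?_⟩
    · rw [← map_pow, show t' ^ 2 = 1 from Subtype.ext (by rw [sq]; exact D.t_sq), map_one]
    · exact fun h => ht' ((QuotientGroup.eq_one_iff _).1 h)
    obtain ⟨g, rfl⟩ := QuotientGroup.mk'_surjective _ a
    rw [← map_inv, ← map_mul, ← map_mul] at ha ⊢
    set y := g * t' * g⁻¹ with hy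
    have hmove : ((y * t' * y⁻¹ : X) : G) = D.t ∨ ((y * t' * y⁻¹ : X) : G) = D.v 8 := by
      have hmem : y * t' * y⁻¹ * t'⁻¹ ∈ zpowers u := by
        refine (QuotientGroup.eq_one_iff _).1 ?_
        show q (y * t' * y⁻¹ * t'⁻¹) = 1
        have ha' : q t' * q y = q y * q t' := ha.eq
        rw [map_mul, map_mul, map_mul, map_inv, map_inv, ← ha']
        group
      rcases hmem0.1 hmem with h | h
      · exact Or.inl (mul_inv_eq_one.1 h)
      · refine Or.inr ?_
        have h' : ((y * t' * y⁻¹ : X) : G) = D.v 9 * D.t := mul_inv_eq_iff_eq_mul.1 h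
        rw [h', D.E_comm h9 D.t_mem_E, ← D.v_one, v_eight_eq hD]
    have hy9 : (y : G) * D.v 9 = D.v 9 * y := hmemX.1 y.2
    have hyN : (y : G) ∈ normalizer (D.E : Set G) := normalizer_of_moves hD hy9 hmove
    have hyE := mem_E_of_mem_normalizer hD hyN (isConj_iff.2 ⟨g, rfl⟩)
    rcases moves_of_mem hD (hmemX.1 g.2) hyE with h | h
    · exact congrArg q (Subtype.ext h)
    · refine (QuotientGroup.eq.2 ?_).symm
      refine hmem0.2 (Or.inr ?_)
      show D.t⁻¹ * ((g : G) * D.t * (g : G)⁻¹) = D.v 9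
      rw [h, ← v_eight_eq hD, D.v_one, inv_mul_cancel_left]
  obtain ⟨N, hN, hodd, hcomm⟩ := ZStar.zstar hiso
  haveI := hN
  set P : Subgroup X := N.comap q with hP
  set f := q.comp P.subtype
  have hker : f.ker = (zpowers u).subgroupOf P := by
    show Subgroup.comap f ⊥ = _
    rw [← comap_comap, MonoidHom.comap_bot, QuotientGroup.ker_mk']
    rfl
  have hrange : f.range = N := by
    rw [MonoidHom.range_comp, range_subtype, hP, map_comap_eq_self_of_surjective (QuotientGroup.mk'_surjective _)]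
  have hz0 : zpowers u ≤ P := fun a ha => by
    show q a ∈ N
    rw [show q a = 1 from (QuotientGroup.eq_one_iff a).2 ha]
    exact one_mem _
  have hcard0 : Nat.card ((zpowers u).subgroupOf P) = 2 := by
    rw [Nat.card_congr (subgroupOfEquivOfLe hz0).toEquiv, Nat.card_zpowers, hu2]
  have hindex : ((zpowers u).subgroupOf P).index = Nat.card N := by rw [← hker, index_ker, hrange]
  haveI : ((zpowers u).subgroupOf P).Normal := hN0.subgroupOf P
  obtain ⟨H, hH⟩ := exists_right_complement'_of_coprime (N := (zpowers u).subgroupOf P)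
    (by rw [hcard0, hindex, Nat.coprime_two_left]; exact hodd)
  have hHodd : Odd (Nat.card H) := by
    have h1 := hH.card_mul
    rw [← card_mul_index ((zpowers u).subgroupOf P), hindex] at h1
    rwa [mul_left_cancel₀ (by rw [hcard0]; norm_num) h1]
  have hodd_mem : ∀ x : P, Odd (orderOf x) → x ∈ H := by
    intro x hx
    obtain ⟨⟨⟨a, ha⟩, h⟩, hah⟩ := hH.2 x
    have hah' : a * (h : P) = x := hah
    rcases hmem0.1 (mem_subgroupOf.1 ha) with e | e
    · have : a = 1 := Subtype.ext (Subtype.ext e)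
      rw [← hah', this, one_mul]
      exact h.2
    · exfalso
      have hau : (a : X) = u := Subtype.ext e
      have hc : Commute a (h : P) := Subtype.ext (by
        show (a : X) * ((h : P) : X) = ((h : P) : X) * (a : X)
        rw [hau]
        exact (mem_center_iff.1 hu _).symm)
      have ha2 : a ^ 2 = 1 := Subtype.ext (by
        show (a : X) ^ 2 = 1
        rw [hau, ← hu2, pow_orderOf_eq_one])
      obtain ⟨k, hk⟩ := hx
      have h1 : a ^ orderOf x * (h : P) ^ orderOf x = 1 := by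
        rw [← hc.mul_pow, hah', pow_orderOf_eq_one]
      have h2 : a ^ orderOf x = a := by rw [hk, pow_succ, pow_mul, ha2, one_pow, one_mul]
      rw [h2] at h1
      have h3 : a ∈ H := by
        rw [mul_eq_one_iff_eq_inv.1 h1]
        exact inv_mem (pow_mem h.2 _)
      have h4 : a = 1 := disjoint_def.1 hH.disjoint ha h3
      have h5 : (u : X) = 1 := by rw [← hau, h4]; rfl
      rw [h5, orderOf_one] at hu2
      omega
  set K : Subgroup G := (H.map P.subtype).map X.subtype with hK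
  have hKbot : K = ⊥ := by
    refine odd_trivial hD ?_ ?_ ?_
    · rw [hK, card_map_of_injective X.subtype_injective, card_map_of_injective P.subtype_injective]
      exact hHodd
    · rintro k ⟨x, -, rfl⟩
      exact hmemX.1 x.2
    · have key : ∀ e ∈ D.E, ∀ k ∈ K, e * k * e⁻¹ ∈ K := by
        rintro e he _ ⟨_, ⟨x, hx, rfl⟩, rfl⟩
        haveI : P.Normal := hN.comap q
        have hxP : (⟨e, hEX he⟩ : X) * (x : X) * (⟨e, hEX he⟩ : X)⁻¹ ∈ P :=
          Normal.conj_mem inferInstance _ x.2 _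
        refine ⟨_, ⟨⟨_, hxP⟩, hodd_mem _ ?_, rfl⟩, rfl⟩
        rw [← orderOf_coe]
        show Odd (orderOf ((⟨e, hEX he⟩ : X) * (x : X) * (⟨e, hEX he⟩ : X)⁻¹))
        rw [Invol.orderOf_conj_eq, orderOf_coe]
        exact hHodd.of_dvd_nat (orderOf_dvd_natCard _ hx)
      intro e he
      refine mem_normalizer_iff.2 fun k => ⟨key e he k, fun hk => ?_⟩
      have := key e⁻¹ (inv_mem he) _ hk
      rwa [show e⁻¹ * (e * k * e⁻¹) * (e⁻¹)⁻¹ = k by group] at this
  have hcomm1 : ∀ g : X, t' * g * t'⁻¹ * g⁻¹ ∈ zpowers u := by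
    intro g
    have h1 : q (t' * g * t'⁻¹ * g⁻¹) ∈ N := by
      rw [map_mul, map_mul, map_mul, map_inv, map_inv]
      exact hcomm (q g)
    obtain ⟨⟨⟨a, ha⟩, h⟩, hah⟩ := hH.2 ⟨t' * g * t'⁻¹ * g⁻¹, h1⟩
    have hh : (h : P) = 1 := by
      have : (((h : P) : X) : G) ∈ K := ⟨_, ⟨h.1, h.2, rfl⟩, rfl⟩
      rw [hKbot, mem_bot] at this
      exact Subtype.ext (Subtype.ext this)
    rw [← show (a : X) = t' * g * t'⁻¹ * g⁻¹ by
      have := congrArg Subtype.val (hah : a * (h : P) = _)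
      simp only [hh, mul_one] at this
      exact this]
    exact mem_subgroupOf.1 ha
  intro g hg
  refine normalizer_of_moves hD (hmemX.1 hg) ?_
  rcases hmem0.1 (hcomm1 ⟨g, hg⟩) with h | h
  · refine Or.inl ?_
    have h' : D.t * g * D.t⁻¹ * g⁻¹ = 1 := h
    rw [mul_inv_eq_one, mul_inv_eq_iff_eq_mul] at h'
    exact mul_inv_eq_iff_eq_mul.2 h'.symm
  · refine Or.inr ?_
    have h' : D.t * g * D.t⁻¹ * g⁻¹ = D.v 9 := h
    rw [← v_eight_eq hD, D.v_one, ← h',
      show D.t * (D.t * g * D.t⁻¹ * g⁻¹) = (D.t * D.t) * g * D.t⁻¹ * g⁻¹ by group, D.t_sq,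
      inv_eq_of_mul_eq_one_right D.t_sq, one_mul]

theorem card_cent_nine : Nat.card (centralizer ({D.v 9} : Set G)) = 96 := by
  classical
  set X := centralizer ({D.v 9} : Set G)
  set Y := (centralizer ({D.t} : Set G)).subgroupOf X
  have h48 : Nat.card Y = 48 := by
    rw [← count_cent_nine, ← D.ncard_image, Nat.card_congr
      ((Equiv.subtypeSubtypeEquivSubtypeExists _ _).trans (Equiv.refl _))]
    refine Nat.card_congr (Equiv.subtypeEquivRight fun g => ?_)
    constructor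
    · rintro ⟨h1, h2⟩
      obtain ⟨a, rfl⟩ := D.mem_cent.1 h2
      obtain ⟨b, hb, e⟩ := D.exists_rep a
      refine ⟨b, List.mem_filter.2 ⟨hb, D.comm_iff.1 ?_⟩, e.symm⟩
      rw [← e]
      exact mem_centralizer_singleton_iff.1 h1
    · rintro ⟨b, hb, rfl⟩
      exact ⟨mem_centralizer_singleton_iff.2 (D.comm_iff.2 (List.mem_filter.1 hb).2), D.mem_cent.2 ⟨b, rfl⟩⟩
  have hidx : Y.index = 2 := by
    obtain ⟨m, -, e1, e2⟩ := exists_swap hD
    refine index_eq_two_iff.2 ⟨⟨m, mem_centralizer_singleton_iff.2 e2⟩, fun b => ?_⟩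
    have hb : (b : G) * D.v 9 = D.v 9 * b := mem_centralizer_singleton_iff.1 b.2
    have hbm : ∀ c : G, (c ∈ centralizer ({D.t} : Set G) ↔ c * D.t * c⁻¹ = D.t) := fun c => by
      rw [mem_centralizer_singleton_iff, mul_inv_eq_iff_eq_mul]
    have hmv : ∀ c : X, (c : G) * D.t * (c : G)⁻¹ = D.t ∨ (c : G) * D.t * (c : G)⁻¹ = D.v 8 := fun c =>
      moves_of_mem hD (mem_centralizer_singleton_iff.1 c.2)
        ((mem_normalizer_iff.1 (cent_nine_le hD c.2) _).1 D.t_mem_E)
    have ht8 : D.v 8 ≠ D.t := fun h => by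
      have := D.v_inj (i := 8) (j := 1) (by norm_num) (by norm_num) (h.trans D.v_one.symm)
      omega
    rw [mem_subgroupOf, mem_subgroupOf, hbm, hbm]
    show Xor ((b : G) * m * D.t * ((b : G) * m)⁻¹ = D.t) ((b : G) * D.t * (b : G)⁻¹ = D.t)
    have hm8 : m * D.v 8 * m⁻¹ = D.t := by
      rw [← v_eight_eq hD, D.v_one, show m * (D.t * D.v 9) * m⁻¹ = m * D.t * m⁻¹ * (m * D.v 9 * m⁻¹) by group,
        e1, e2, mul_inv_cancel_right, ← v_eight_eq hD, D.v_one, mul_assoc, D.E_sq (D.v_mem (by norm_num)), mul_one]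
    have hexp : (b : G) * m * D.t * ((b : G) * m)⁻¹ = b * D.v 8 * (b : G)⁻¹ := by rw [← e1]; group
    have h8b : (b : G) * D.v 8 * (b : G)⁻¹ = (b : G) * D.t * (b : G)⁻¹ * D.v 9 := by
      rw [← v_eight_eq hD, D.v_one, show (b : G) * (D.t * D.v 9) * (b : G)⁻¹ =
        (b : G) * D.t * (b : G)⁻¹ * ((b : G) * D.v 9 * (b : G)⁻¹) by group, hb, mul_inv_cancel_right]
    rw [hexp, h8b]
    rcases hmv b with h | h
    · refine Or.inr ⟨h, fun h' => ?_⟩
      rw [h, mul_eq_left] at h'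
      exact v_nine_ne hD h'
    · refine Or.inl ⟨?_, fun h' => ht8 (h.symm.trans h')⟩
      rw [h, ← v_eight_eq hD, D.v_one, mul_assoc, D.E_sq (D.v_mem (by norm_num)), mul_one]
  rw [← card_mul_index Y, h48, hidx]

end Setup

end CfsgLib.PSpFourInvol
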