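import Cfsg.Agent.PSpFourInvol.Code

/-!
# Computed facts about the coded centraliser
-/

set_option autoImplicit false

namespace CfsgLib.PSpFourInvol

/-- Membership in the standard Sylow 2-subgroup. -/
def inT (w : W) : Bool :=
  [0, 1, 2, 5, 11, 15, 19, 23].contains w.x && [0, 1, 2, 5, 11, 15, 19, 23].contains w.y

/-- A vector of the elementary abelian group of order 16. -/
def vec (k : ℕ) : W :=
  wm (wm (if k.testBit 0 then tW else 1) (if k.testBit 1 then ⟨2, 2, false⟩ else 1))
    (wm (if k.testBit 2 then ⟨11, 11, false⟩ else 1) (if k.testBit 3 then ⟨0, 0, true⟩ else 1))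

/-- The index of an element of `E`, or `16`. -/
def idx (w : W) : ℕ := ((List.range 16).find? fun k => eqz (vec k) w).getD 16

/-- Membership in `E`. -/
def inE (w : W) : Bool := idx w < 16

/-- Involution of the centraliser. -/
def isInv (w : W) : Bool := eqz (wm w w) 1 && !eqz w 1

/-- Commuting in the centraliser. -/
def comm (a b : W) : Bool := eqz (wm a b) (wm b a)

/-- Conjugation. -/
def cj (g a : W) : W := wm (wm g a) (wi g)

/-- The thirteen involutions of the first type. -/
def tList : List W :=
  [⟨0, 0, true⟩,
   ⟨0, 1, false⟩,
   ⟨2, 5, true⟩,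
   ⟨3, 14, true⟩,
   ⟨4, 22, true⟩,
   ⟨8, 9, true⟩,
   ⟨9, 8, true⟩,
   ⟨10, 13, true⟩,
   ⟨11, 23, true⟩,
   ⟨12, 6, true⟩,
   ⟨13, 10, true⟩,
   ⟨14, 3, true⟩,
   ⟨15, 19, true⟩]

/-- The first type. -/
def isTs (w : W) : Bool := tList.any fun a => eqz a w

/-- The second type. -/
def isUs (w : W) : Bool := isInv w && !isTs w

/-- Normalisation of `E`. -/
def nE (g : W) : Bool := inE (cj g (vec 1)) && inE (cj g (vec 2)) && inE (cj g (vec 4)) && inE (cj g (vec 8))

/-- The map induced on indices. -/
def pmap (g : W) : List ℕ := [idx (cj g (vec 1)), idx (cj g (vec 2)), idx (cj g (vec 4)), idx (cj g (vec 8))]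

theorem inT_closed : allC.all (fun a => !inT a || allW.all fun b => !inT b || inT (wm a b)) = true := by
  decide +kernel

theorem inT_z : allW.all (fun a => inT a == inT (wm z a)) = true := by decide +kernel

theorem card_inT : (allC.filter inT).length = 64 ∧ allC.length = 576 := by decide +kernel

theorem centre : allW.all (fun a => !(allC.all fun h => comm a h) || eqz a 1 || eqz a tW) = true := by
  decide +kernel

theorem centre_T : allW.all (fun a => !inT a || !((allC.filter inT).all fun h => comm a h) ||
    eqz a 1 || eqz a tW) = true := by
  decide +kernel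

theorem vec_xor : (List.range 16).all (fun i => (List.range 16).all fun j =>
    eqz (vec (i ^^^ j)) (wm (vec i) (vec j))) = true := by decide +kernel

theorem vec_inj : (List.range 16).all (fun i => idx (vec i) == i) = true := by decide +kernel

theorem vec_facts : (List.range 16).all (fun i => inT (vec i) && nE (vec i) &&
    (i == 0 || isInv (vec i))) = true := by decide +kernel

theorem few_commuting : allW.all (fun a => !inT a || !isInv a || inE a ||
    ((allC.filter inT).filter fun b => isInv b && comm a b).length < 15) = true := by
  decide +kernel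

theorem cent_E : allW.all (fun a => !(comm a (vec 1) && comm a (vec 2) && comm a (vec 4) && comm a (vec 8))
    || inE a) = true := by
  decide +kernel

theorem t_in_T : allW.all (fun a => !inT a || !isTs a || inE a) = true := by decide +kernel

theorem t_list_closed : tList.all (fun a => isInv a && allC.all fun g => isTs (cj g a)) = true := by
  decide +kernel

theorem vec_types : (List.range 16).all (fun i => isTs (vec i) == [1, 8, 11, 13, 15].contains i) = true := by
  decide +kernel

theorem invol_reps : allW.all (fun a => !isInv a ||
    [1, 2, 8, 9].any (fun k => allC.any fun h => eqz (cj h a) (vec k))) = true := by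
  decide +kernel

theorem cent_u : [2, 3, 4, 5, 6, 7, 9, 10, 12, 14].all (fun k =>
    allC.all fun g => !comm g (vec k) || nE g) = true := by
  decide +kernel

theorem nE_conj : allC.all (fun g => !nE g || (List.range 16).all fun i => inE (cj g (vec i))) = true := by
  decide +kernel

theorem fix_two : allC.all (fun g => !nE g || !eqz (wm g g) 1 ||
    !([8, 11, 13, 15].any fun k => eqz (cj g (vec k)) (vec k)) ||
    [1, 2, 4, 8].all fun k => eqz (cj g (vec k)) (vec k)) = true := by
  decide +kernel

theorem swap_count : [(8, 11), (8, 13), (8, 15), (11, 13), (11, 15), (13, 15)].all (fun p =>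
    (allC.filter fun g => nE g && isInv g && eqz (cj g (vec p.1)) (vec p.2)).length == 4) = true := by
  decide +kernel

/-- Whether the involution `tW` is a power of `a`. -/
def hitsT (a : W) : Bool := (List.range 13).any fun n => eqz (Nat.iterate (wm a) n a) tW

theorem pair_count :
    ((tList.map fun a => ((allC.filter isUs).filter fun b => hitsT (wm a b)).length).sum) = 108 := by
  decide +kernel

theorem hitsT_complete : tList.all (fun a => (allC.filter isUs).all fun b =>
    (List.range 13).any fun n => eqz (Nat.iterate (wm (wm a b)) n (wm a b)) 1) = true := by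
  decide +kernel

theorem other_E : allC.all (fun g => nE g || [8, 11, 13, 15].all fun k =>
    [8, 11, 13, 15].all fun l => !eqz (cj g (vec k)) (vec l) && !comm (cj g (vec k)) (vec l)) = true := by
  decide +kernel

end CfsgLib.PSpFourInvol
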