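import Cfsg.Agent.PSpFourInvol.Setup
import Cfsg.Agent.ZStar.Final
import Cfsg.Agent.Solvable.Basics

/-!
# Fusion of involutions is controlled by the normaliser of `E`
-/

set_option autoImplicit false
set_option linter.style.haveILetI false
set_option linter.unusedSectionVars false

namespace CfsgLib.PSpFourInvol

open Subgroup

namespace Setup

variable {G : Type*} [Group G] [Finite G] (D : Setup G)

theorem t_mem_T : D.t ∈ D.T := D.mem_T.2 ⟨tW, tW_basic.1, rfl⟩

theorem T_le_cent : D.T ≤ centralizer ({D.t} : Set G) := by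
  rintro g ⟨a, -, rfl⟩
  exact D.mem_cent.2 ⟨a, rfl⟩

theorem centre_T_eq {x : G} (hx : x ∈ D.T) (hc : ∀ y ∈ D.T, x * y = y * x) : x = 1 ∨ x = D.t := by
  obtain ⟨a, ha, rfl⟩ := D.mem_T.1 hx
  have h : ((allC.filter inT).all fun h => comm a h) = true := List.all_eq_true.2 fun b hb =>
    D.comm_iff.1 (hc _ (D.mem_T.2 ⟨b, (List.mem_filter.1 hb).2, rfl⟩))
  have := List.all_eq_true.1 centre_T a (mem_allW a)
  simp only [Bool.or_eq_true, ← D.ι_eq_iff, map_one, Bool.not_eq_true', ha, h] at this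
  rcases this with ((h' | h') | h') | h'
  · cases h'
  · cases h'
  · exact Or.inl h'
  · exact Or.inr h'

theorem T_isPGroup : IsPGroup 2 D.T := IsPGroup.of_card (n := 6) (by rw [D.card_T]; norm_num)

theorem le_T_of_pgroup {R : Subgroup G} (hR : IsPGroup 2 R) (hT : D.T ≤ R)
    (hc : R ≤ centralizer ({D.t} : Set G)) : R ≤ D.T := by
  haveI : Fact (Nat.Prime 2) := ⟨Nat.prime_two⟩
  obtain ⟨n, hn⟩ := IsPGroup.iff_card.1 hR
  have h1 : 2 ^ n ∣ 576 := hn ▸ D.card_cent ▸ card_dvd_of_le hc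
  have h2 : n ≤ 6 := by
    by_contra hcon
    have : 2 ^ 7 ∣ 576 := (pow_dvd_pow 2 (by omega)).trans h1
    norm_num at this
  exact (eq_of_le_of_card_ge hT (by rw [hn, D.card_T]; exact Nat.pow_le_pow_right two_pos h2)).ge

theorem exists_sylow : ∃ S : Sylow 2 G, (S : Subgroup G) = D.T := by
  haveI : Fact (Nat.Prime 2) := ⟨Nat.prime_two⟩
  obtain ⟨S, hS⟩ := D.T_isPGroup.exists_le_sylow
  refine ⟨S, le_antisymm ?_ hS⟩
  haveI : Nontrivial S := ⟨⟨D.t, hS D.t_mem_T⟩, 1, fun h => Invol.ne_one D.ord_t (congrArg Subtype.val h)⟩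
  obtain ⟨c, hc, hc1⟩ := (bot_or_exists_ne_one (Subgroup.center S)).resolve_left
    (nontrivial_iff_ne_bot _ |>.1 S.isPGroup'.center_nontrivial)
  have hcomm : ∀ y ∈ (S : Subgroup G), (c : G) * y = y * c := fun y hy =>
    congrArg Subtype.val ((mem_center_iff.1 hc ⟨y, hy⟩).symm)
  have hcT : (c : G) ∈ D.T := by
    have hle : (S : Subgroup G) ⊓ centralizer ({D.t} : Set G) ≤ D.T :=
      D.le_T_of_pgroup (S.isPGroup'.to_le inf_le_left) (le_inf hS D.T_le_cent) inf_le_right
    exact hle ⟨c.2, mem_centralizer_singleton_iff.2 (hcomm _ (hS D.t_mem_T))⟩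
  rcases D.centre_T_eq hcT (fun y hy => hcomm y (hS hy)) with h | h
  · exact absurd (Subtype.ext h) hc1
  · refine D.le_T_of_pgroup S.isPGroup' hS fun y hy => mem_centralizer_singleton_iff.2 ?_
    rw [← h]
    exact (hcomm y hy).symm

theorem isPGroup_E : IsPGroup 2 D.E := IsPGroup.of_card (n := 4) (by rw [D.card_E]; norm_num)

/-- `E` is the only conjugate of itself in `T`. -/
theorem mem_normalizer_of_le_T {g : G} (h : ∀ x ∈ D.E, g * x * g⁻¹ ∈ D.T) :
    g ∈ normalizer (D.E : Set G) := by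
  classical
  have key : ∀ x ∈ D.E, g * x * g⁻¹ ∈ D.E := by
    intro x hx
    obtain ⟨a, ha, hax⟩ := D.mem_T.1 (h x hx)
    by_contra hxE
    have hx1 : x ≠ 1 := fun e => hxE (by rw [e, mul_one, mul_inv_cancel]; exact one_mem _)
    have hainv : isInv a = true := D.inv_iff.1 (by
      rw [hax, Invol.orderOf_conj_eq]
      exact orderOf_eq_prime (by rw [sq]; exact D.E_sq hx) hx1)
    have haE : inE a = false := by
      by_contra e
      exact hxE (hax ▸ D.ι_mem_E (by simpa using e))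
    have hlt : ((allC.filter inT).filter fun b => isInv b && comm a b).length < 15 := by
      have := List.all_eq_true.1 few_commuting a (mem_allW a)
      simpa [ha, hainv, haE] using this
    set L := ((allC.filter inT).filter fun b => isInv b && comm a b).toFinset with hL
    have hle : 15 ≤ L.card := by
      have hmem : ∀ i : Fin 15, ∃ b ∈ L, D.ι b = g * D.v (i.val + 1) * g⁻¹ := by
        intro i
        have hvE : D.v (i.val + 1) ∈ D.E := D.v_mem (by omega)
        obtain ⟨c, hc, hcx⟩ := D.mem_T.1 (h _ hvE)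
        obtain ⟨b, hb, e⟩ := D.exists_rep c
        refine ⟨b, ?_, e ▸ hcx⟩
        have hne : D.v (i.val + 1) ≠ 1 := fun e => by
          have := D.v_inj (i := i.val + 1) (j := 0) (by omega) (by norm_num) (e.trans D.v_zero.symm)
          omega
        have hbi : isInv b = true := D.inv_iff.1 (by
          rw [← e, hcx, Invol.orderOf_conj_eq]
          exact orderOf_eq_prime (by rw [sq]; exact D.E_sq hvE) hne)
        have hcm : comm a b = true := D.comm_iff.1 (by
          rw [← e, hcx, hax, show g * x * g⁻¹ * (g * D.v (i.val + 1) * g⁻¹) =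
            g * (x * D.v (i.val + 1)) * g⁻¹ by group, D.E_comm hx hvE]
          group)
        simp only [hL, List.mem_toFinset, List.mem_filter]
        exact ⟨⟨hb, D.inT_congr e ▸ hc⟩, by rw [hbi, hcm]; rfl⟩
      choose f hf1 hf2 using hmem
      have hfinj : Function.Injective f := by
        intro i j e
        have := hf2 i
        rw [e, hf2 j, mul_left_inj, mul_right_inj] at this
        exact Fin.ext (by have := D.v_inj (by omega) (by omega) this; omega)
      calc 15 = (Finset.univ.image f).card := by rw [Finset.card_image_of_injective _ hfinj]; rfl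
        _ ≤ L.card := Finset.card_le_card fun b hb => by
          obtain ⟨i, -, rfl⟩ := Finset.mem_image.1 hb
          exact hf1 i
    exact absurd ((List.toFinset_card_le _).trans_lt hlt) (not_lt.2 hle)
  have hle : D.E.map (MulAut.conj g).toMonoidHom ≤ D.E := by
    rintro _ ⟨x, hx, rfl⟩
    exact key x hx
  have heq := eq_of_le_of_card_ge hle
    (card_map_of_injective (MulAut.conj g).injective).ge
  refine mem_normalizer_iff.2 fun x => ⟨key x, fun hx => ?_⟩
  obtain ⟨y, hy, e⟩ := heq.ge hx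
  rw [← mul_left_cancel (mul_right_cancel e)]
  exact hy

/-- `E` is weakly closed in every 2-subgroup containing it. -/
theorem weak {R : Subgroup G} (hR : IsPGroup 2 R) (hE : D.E ≤ R) {g : G}
    (h : ∀ x ∈ D.E, g * x * g⁻¹ ∈ R) : g ∈ normalizer (D.E : Set G) := by
  haveI : Fact (Nat.Prime 2) := ⟨Nat.prime_two⟩
  obtain ⟨P, hP⟩ := hR.exists_le_sylow
  obtain ⟨S, hS⟩ := D.exists_sylow
  obtain ⟨k, hk⟩ := MulAction.exists_smul_eq G P S
  have hkR : ∀ y ∈ R, k * y * k⁻¹ ∈ D.T := by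
    intro y hy
    rw [← hS, ← hk]
    exact ⟨y, hP hy, rfl⟩
  have h1 := D.mem_normalizer_of_le_T fun x hx => hkR x (hE hx)
  have h2 : k * g ∈ normalizer (D.E : Set G) := D.mem_normalizer_of_le_T fun x hx => by
    have := hkR _ (h x hx)
    rwa [show k * g * x * (k * g)⁻¹ = k * (g * x * g⁻¹) * k⁻¹ by group]
  exact (mul_mem_cancel_left h1).1 h2

/-- Fusion in `E` is controlled by the normaliser. -/
theorem control {x : G} (hx : x ∈ D.E) {g : G} (hg : g * x * g⁻¹ ∈ D.E) :
    ∃ n ∈ normalizer (D.E : Set G), n * x * n⁻¹ = g * x * g⁻¹ := by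
  haveI : Fact (Nat.Prime 2) := ⟨Nat.prime_two⟩
  set y := g * x * g⁻¹ with hy
  set C := centralizer ({y} : Set G)
  have h1 : D.E ≤ C := fun a ha => mem_centralizer_singleton_iff.2 (D.E_comm ha hg)
  have h2 : D.E.map (MulAut.conj g).toMonoidHom ≤ C := by
    rintro a ⟨b, hb, rfl⟩
    refine mem_centralizer_singleton_iff.2 ?_
    show g * b * g⁻¹ * (g * x * g⁻¹) = g * x * g⁻¹ * (g * b * g⁻¹)
    rw [show g * b * g⁻¹ * (g * x * g⁻¹) = g * (b * x) * g⁻¹ by group, D.E_comm hb hx]
    group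
  obtain ⟨R₁, hR₁⟩ := (IsPGroup.of_equiv D.isPGroup_E (subgroupOfEquivOfLe h1).symm).exists_le_sylow
  obtain ⟨R₂, hR₂⟩ := (IsPGroup.of_equiv (D.isPGroup_E.map (MulAut.conj g).toMonoidHom)
    (subgroupOfEquivOfLe h2).symm).exists_le_sylow
  obtain ⟨c, hc⟩ := MulAction.exists_smul_eq C R₂ R₁
  refine ⟨(c : G) * g, D.weak (R₁.isPGroup'.map C.subtype) (fun a ha => ?_) (fun a ha => ?_), ?_⟩
  · exact ⟨⟨a, h1 ha⟩, hR₁ (mem_subgroupOf.2 ha), rfl⟩
  · have hmem : (⟨g * a * g⁻¹, h2 ⟨a, ha, rfl⟩⟩ : C) ∈ (R₂ : Subgroup C) :=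
      hR₂ (mem_subgroupOf.2 ⟨a, ha, rfl⟩)
    refine ⟨c * ⟨g * a * g⁻¹, h2 ⟨a, ha, rfl⟩⟩ * c⁻¹, ?_, ?_⟩
    · rw [← hc]
      exact ⟨_, hmem, rfl⟩
    · show (c : G) * (g * a * g⁻¹) * (c : G)⁻¹ = _
      group
  · have := mem_centralizer_singleton_iff.1 c.2
    rw [show (c : G) * g * x * ((c : G) * g)⁻¹ = (c : G) * y * (c : G)⁻¹ by rw [hy]; group, this,
      mul_inv_cancel_right]

end Setup

end CfsgLib.PSpFourInvol
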