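import Mathlib

/-!
# Uniqueness of the generalised quadrangle with lines of three points and five lines on a point
-/

set_option autoImplicit false
set_option linter.style.haveILetI false
set_option linter.unusedSectionVars false

namespace CfsgLib.PSpFourInvol.Quad

/-- Vectors of length five. -/
abbrev Vec : Type := Fin 5 → Bool

/-- Parity. -/
def parity (v : Vec) : Bool := xor (xor (xor (v 0) (v 1)) (xor (v 2) (v 3))) (v 4)

/-- Flipping all coordinates but one. -/
def flipBut (i : Fin 5) (v : Vec) : Vec := fun j => if j = i then v j else !(v j)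

theorem parity_flipBut : ∀ i v, parity (flipBut i v) = parity v := by decide +kernel

theorem reach : ∀ v w : Vec, parity v = parity w →
    v = w ∨ (∃ i, v = flipBut i w) ∨ ∃ i j, v = flipBut i (flipBut j w) := by decide +kernel

theorem flipBut_ne : ∀ i v, flipBut i v ≠ v := by decide +kernel

/-- Even vectors. -/
abbrev Even5 : Type := {v : Vec // parity v = false}

theorem card_even : Fintype.card Even5 = 16 := by decide +kernel

/-- The model point set. -/
abbrev M : Type := Option ((Fin 5 × Bool) ⊕ Even5)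

/-- The origin of the model. -/
def x₀ : M := some (.inr ⟨fun _ => false, rfl⟩)

/-- Collinearity in the model. -/
def madj : M → M → Prop
  | none, some (.inl _) => True
  | some (.inl _), none => True
  | some (.inl a), some (.inl b) => a.1 = b.1 ∧ a.2 ≠ b.2
  | some (.inl a), some (.inr v) => v.1 a.1 = a.2
  | some (.inr v), some (.inl a) => v.1 a.1 = a.2
  | some (.inr v), some (.inr w) => ∃ i, w.1 = flipBut i v.1
  | _, _ => False

/-- The automorphisms of the model. -/
def aut : Subgroup (Equiv.Perm M) where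
  carrier := {σ | ∀ x y, madj (σ x) (σ y) ↔ madj x y}
  one_mem' := fun _ _ => Iff.rfl
  mul_mem' := fun {σ τ} hσ hτ x y => (hσ _ _).trans (hτ x y)
  inv_mem' := fun {σ} hσ x y => by
    conv_rhs => rw [← Equiv.apply_symm_apply σ x, ← Equiv.apply_symm_apply σ y]
    exact (hσ _ _).symm

theorem card_le_mul {α β : Type*} [Finite α] [Finite β] (f : α → β) (k : ℕ)
    (h : ∀ b, Nat.card {a // f a = b} ≤ k) : Nat.card α ≤ Nat.card β * k := by
  classical
  haveI := Fintype.ofFinite β
  rw [Nat.card_congr (Equiv.sigmaFiberEquiv f).symm, Nat.card_sigma]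
  refine (Finset.sum_le_card_nsmul _ _ k fun b _ => h b).trans (le_of_eq ?_)
  rw [smul_eq_mul, Finset.card_univ, Nat.card_eq_fintype_card]

theorem rigid {σ : Equiv.Perm M} (hσ : σ ∈ aut) (h0 : σ none = none) (h1 : σ x₀ = x₀)
    (h2 : ∀ i, σ (some (.inl (i, false))) = some (.inl (i, false))) : σ = 1 := by
  have hA : ∀ a : Fin 5 × Bool, σ (some (.inl a)) = some (.inl a) := by
    rintro ⟨i, b⟩
    cases b with
    | false => exact h2 i
    | true =>
      have e1 : madj none (σ (some (.inl (i, true)))) := by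
        rw [← h0, hσ]; exact trivial
      have e2 : madj (some (.inl (i, false))) (σ (some (.inl (i, true)))) := by
        rw [← h2 i, hσ]; exact ⟨rfl, Bool.false_ne_true⟩
      rcases hy : σ (some (.inl (i, true))) with _ | (⟨j, c⟩ | v)
      · rw [hy] at e1; exact e1.elim
      · rw [hy] at e2
        obtain ⟨rfl, e2'⟩ := e2
        cases c with
        | false => exact absurd rfl e2'
        | true => rfl
      · rw [hy] at e1; exact e1.elim
  refine Equiv.ext fun x => ?_
  rcases x with _ | (a | v)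
  · exact h0
  · exact hA a
  · rcases hy : σ (some (.inr v)) with _ | (a | w)
    · exact absurd (σ.injective (hy.trans h0.symm)) (by simp)
    · exact absurd (σ.injective (hy.trans (hA a).symm)) (by simp)
    · show some (Sum.inr w) = some (Sum.inr v)
      congr 2
      refine Subtype.ext (funext fun i => ?_)
      have h : madj (some (.inl (i, v.1 i))) (some (.inr v)) := rfl
      rw [← hσ, hA, hy] at h
      exact h

theorem card_aut : Nat.card aut ≤ 51840 := by
  classical
  have hM : Nat.card M = 27 := by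
    rw [Nat.card_eq_fintype_card, Fintype.card_option, Fintype.card_sum, Fintype.card_prod, Fintype.card_fin,
      Fintype.card_bool, card_even]
  have h1 : ∀ σ : aut, σ.1 none = none → ∃ v : Even5, σ.1 x₀ = some (.inr v) := by
    intro σ h0
    rcases hy : σ.1 x₀ with _ | (a | v)
    · exact absurd (σ.1.injective (hy.trans h0.symm)) (by simp [x₀])
    · exact absurd ((σ.2 none x₀).1 (by rw [h0, hy]; trivial)) (fun h => h)
    · exact ⟨v, rfl⟩
  have h2 : ∀ σ : aut, σ.1 none = none → σ.1 x₀ = x₀ → ∀ i, ∃ j, σ.1 (some (.inl (i, false))) =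
      some (.inl (j, false)) := by
    intro σ h0 hx i
    have e1 : madj none (σ.1 (some (.inl (i, false)))) := by rw [← h0, σ.2]; exact trivial
    have e2 : madj (σ.1 (some (.inl (i, false)))) x₀ := by rw [← hx, σ.2]; exact rfl
    rcases hy : σ.1 (some (.inl (i, false))) with _ | (⟨j, c⟩ | v)
    · rw [hy] at e1; exact e1.elim
    · rw [hy] at e2
      have hc : false = c := e2
      exact ⟨j, by rw [← hc]⟩
    · rw [hy] at e1; exact e1.elim
  have s2 : Nat.card {σ : aut // σ.1 none = none ∧ σ.1 x₀ = x₀} ≤ 120 := by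
    rw [show (120 : ℕ) = Nat.card (Equiv.Perm (Fin 5)) by
      rw [Nat.card_eq_fintype_card, Fintype.card_perm, Fintype.card_fin]; rfl]
    choose j hj using fun σ : {σ : aut // σ.1 none = none ∧ σ.1 x₀ = x₀} => h2 σ.1 σ.2.1 σ.2.2
    have hinj : ∀ σ, Function.Injective (j σ) := fun σ a b e => by
      have h : σ.1.1 (some (.inl (a, false))) = σ.1.1 (some (.inl (b, false))) := by rw [hj, hj, e]
      simpa using σ.1.1.injective h
    refine Nat.card_le_card_of_injective
      (fun σ => Equiv.ofBijective (j σ) (Finite.injective_iff_bijective.1 (hinj σ))) fun σ τ e => ?_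
    have e' : ∀ i, j σ i = j τ i := fun i => congrArg (fun p : Equiv.Perm (Fin 5) => p i) e
    refine Subtype.ext (Subtype.ext ?_)
    have := rigid (σ := τ.1.1⁻¹ * σ.1.1) (mul_mem (inv_mem τ.1.2) σ.1.2)
      (by rw [Equiv.Perm.mul_apply, σ.2.1, Equiv.Perm.inv_eq_iff_eq, τ.2.1])
      (by rw [Equiv.Perm.mul_apply, σ.2.2, Equiv.Perm.inv_eq_iff_eq, τ.2.2])
      (fun i => by rw [Equiv.Perm.mul_apply, hj, e', ← hj, Equiv.Perm.inv_eq_iff_eq])
    exact (inv_mul_eq_one.1 this).symm
  have s1 : Nat.card {σ : aut // σ.1 none = none} ≤ 16 * 120 := by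
    choose v hv using fun σ : {σ : aut // σ.1 none = none} => h1 σ.1 σ.2
    refine (card_le_mul v 120 fun b => ?_).trans (le_of_eq (by rw [Nat.card_eq_fintype_card, card_even]))
    rcases isEmpty_or_nonempty {a // v a = b} with h | ⟨⟨σ₀, hσ₀⟩⟩
    · simp
    refine le_trans (Nat.card_le_card_of_injective
      (fun σ : {a // v a = b} => (⟨σ₀.1⁻¹ * σ.1.1, ?_, ?_⟩ : {σ : aut // σ.1 none = none ∧ σ.1 x₀ = x₀})) ?_) s2
    · show (σ₀.1.1⁻¹ * σ.1.1.1) none = none
      rw [Equiv.Perm.mul_apply, σ.1.2, Equiv.Perm.inv_eq_iff_eq, σ₀.2]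
    · show (σ₀.1.1⁻¹ * σ.1.1.1) x₀ = x₀
      rw [Equiv.Perm.mul_apply, hv σ.1, σ.2, ← hσ₀, ← hv σ₀, Equiv.Perm.inv_eq_iff_eq]
    · intro σ τ e
      exact Subtype.ext (Subtype.ext (mul_left_cancel (congrArg Subtype.val e)))
  refine (card_le_mul (fun σ : aut => σ.1 none) (16 * 120) fun b => ?_).trans (le_of_eq (by rw [hM]))
  rcases isEmpty_or_nonempty {a : aut // a.1 none = b} with h | ⟨⟨σ₀, hσ₀⟩⟩
  · simp
  refine le_trans (Nat.card_le_card_of_injective
    (fun σ : {a : aut // a.1 none = b} => (⟨σ₀⁻¹ * σ.1, ?_⟩ : {σ : aut // σ.1 none = none})) ?_) s1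
  · show (σ₀.1⁻¹ * σ.1.1) none = none
    rw [Equiv.Perm.mul_apply, σ.2, Equiv.Perm.inv_eq_iff_eq, hσ₀]
  · intro σ τ e
    exact Subtype.ext (mul_left_cancel (congrArg Subtype.val e))

variable {P L : Type*} [Finite P] [Finite L]

/-- An incidence system with the parameters of the quadrangle. -/
structure Geo (P L : Type*) where
  inc : P → L → Prop
  five : ∀ p, Nat.card {l // inc p l} = 5
  three : ∀ l, Nat.card {p // inc p l} = 3
  unique : ∀ {p q l m}, p ≠ q → inc p l → inc q l → inc p m → inc q m → l = m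
  notri : ∀ {p q r l m k}, p ≠ q → q ≠ r → r ≠ p → inc p l → inc q l → inc q m → inc r m → inc r k → inc p k →
    l ≠ m → m ≠ k → k ≠ l → False
  cardP : Nat.card P = 27
  cardL : Nat.card L = 45

namespace Geo

variable (g : Geo P L)

/-- Collinearity. -/
def col (p q : P) : Prop := p ≠ q ∧ ∃ l, g.inc p l ∧ g.inc q l

theorem col_symm {p q : P} (h : g.col p q) : g.col q p :=
  ⟨h.1.symm, h.2.choose, h.2.choose_spec.2, h.2.choose_spec.1⟩

theorem two_others {p : P} {l : L} (h : g.inc p l) :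
    ∃ q r, p ≠ q ∧ p ≠ r ∧ q ≠ r ∧ g.inc q l ∧ g.inc r l ∧ ∀ x, g.inc x l → x = p ∨ x = q ∨ x = r := by
  classical
  haveI := Fintype.ofFinite P
  have h3 : (Finset.univ.filter fun x => g.inc x l).card = 3 := by
    rw [← Fintype.card_subtype, ← Nat.card_eq_fintype_card, g.three l]
  have hp : p ∈ Finset.univ.filter fun x => g.inc x l := by simpa using h
  obtain ⟨q, r, hqr, e⟩ := Finset.card_eq_two.1
    (show ((Finset.univ.filter fun x => g.inc x l).erase p).card = 2 by rw [Finset.card_erase_of_mem hp, h3])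
  have hm : ∀ x, (x ≠ p ∧ g.inc x l) ↔ x = q ∨ x = r := fun x => by
    have := congrArg (fun s => x ∈ s) e
    simpa using this
  refine ⟨q, r, ((hm q).2 (Or.inl rfl)).1.symm, ((hm r).2 (Or.inr rfl)).1.symm, hqr, ((hm q).2 (Or.inl rfl)).2,
    ((hm r).2 (Or.inr rfl)).2, fun x hx => ?_⟩
  by_cases hxp : x = p
  · exact Or.inl hxp
  · exact Or.inr ((hm x).1 ⟨hxp, hx⟩)

theorem proj_unique {p q q' : P} {l : L} (hp : ¬ g.inc p l) (hq : g.inc q l) (hq' : g.inc q' l)
    (h : g.col p q) (h' : g.col p q') : q = q' := by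
  by_contra hne
  obtain ⟨hpq, m, hm, hmq⟩ := h
  obtain ⟨hpq', k, hk, hkq⟩ := h'
  refine g.notri hne hpq'.symm hpq hq hq' hkq hk hm hmq ?_ ?_ ?_
  · exact fun e => hp (e ▸ hk)
  · exact fun e => hp ((g.unique hne hq hq' hmq (e ▸ hkq)).symm ▸ hm)
  · exact fun e => hp (e ▸ hm)

/-- The lines on a point, enumerated, with their further points. -/
theorem exists_star (p : P) : ∃ (ln : Fin 5 → L) (a : Fin 5 → Bool → P), Function.Injective ln ∧
    (∀ i, g.inc p (ln i)) ∧ (∀ l, g.inc p l → ∃ i, ln i = l) ∧ (∀ i b, g.inc (a i b) (ln i)) ∧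
    (∀ i b, a i b ≠ p) ∧ (∀ i, a i false ≠ a i true) ∧
    ∀ i x, g.inc x (ln i) → x = p ∨ ∃ b, x = a i b := by
  have e : Fin 5 ≃ {l // g.inc p l} := (Finite.equivFinOfCardEq (g.five p)).symm
  choose q r h1 h2 h3 h4 h5 h6 using fun i : Fin 5 => g.two_others (e i).2
  refine ⟨fun i => (e i).1, fun i b => if b then r i else q i, fun i j h => e.injective (Subtype.ext h),
    fun i => (e i).2, fun l hl => ⟨e.symm ⟨l, hl⟩, by simp⟩, ?_, ?_, ?_, ?_⟩
  · intro i b; cases b <;> simp [h4, h5]
  · intro i b; cases b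
    · simpa using (h1 i).symm
    · simpa using (h2 i).symm
  · intro i; simpa using h3 i
  · intro i x hx
    rcases h6 i x hx with h | h | h
    · exact Or.inl h
    · exact Or.inr ⟨false, by simpa using h⟩
    · exact Or.inr ⟨true, by simpa using h⟩

theorem proj_exists {p : P} {l : L} (hp : ¬ g.inc p l) : ∃ q, g.inc q l ∧ g.col p q := by
  classical
  haveI := Fintype.ofFinite L
  obtain ⟨ln, a, hln, hp', hall, ha, hap, hne, -⟩ := g.exists_star p
  let S := Σ ib : Fin 5 × Bool, {m : L // g.inc (a ib.1 ib.2) m ∧ m ≠ ln ib.1}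
  have hS : Nat.card S = 40 := by
    rw [Nat.card_sigma]
    have : ∀ ib : Fin 5 × Bool, Nat.card {m : L // g.inc (a ib.1 ib.2) m ∧ m ≠ ln ib.1} = 4 := by
      intro ib
      rw [Nat.card_eq_fintype_card, Fintype.card_subtype,
        show (Finset.univ.filter fun m => g.inc (a ib.1 ib.2) m ∧ m ≠ ln ib.1) =
          (Finset.univ.filter fun m => g.inc (a ib.1 ib.2) m).erase (ln ib.1) by
            ext m; simp [and_comm],
        Finset.card_erase_of_mem (by simpa using ha ib.1 ib.2), ← Fintype.card_subtype,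
        ← Nat.card_eq_fintype_card, g.five]
    simp only [this, Finset.sum_const, Finset.card_univ, Fintype.card_prod, Fintype.card_fin, Fintype.card_bool]
    rfl
  have hnot : ∀ s : S, ¬ g.inc p s.2.1 := fun s h =>
    s.2.2.2 (g.unique (hap s.1.1 s.1.2).symm h s.2.2.1 (hp' s.1.1) (ha s.1.1 s.1.2))
  let f : S → {m : L // ¬ g.inc p m} := fun s => ⟨s.2.1, hnot s⟩
  have hcol : ∀ i b, g.col p (a i b) := fun i b => ⟨(hap i b).symm, ln i, hp' i, ha i b⟩
  have hf : Function.Injective f := by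
    rintro ⟨⟨i, b⟩, m, hm, hm'⟩ ⟨⟨j, c⟩, n, hn, hn'⟩ e
    have emn : m = n := congrArg Subtype.val e
    subst emn
    have e1 : a i b = a j c := g.proj_unique (hnot ⟨(i, b), m, hm, hm'⟩) hm hn (hcol i b) (hcol j c)
    have eij : i = j := hln (g.unique (hap i b).symm (hp' i) (ha i b) (hp' j) (e1 ▸ ha j c))
    subst eij
    have ebc : b = c := by
      cases b <;> cases c <;> first | rfl | exact absurd e1 (hne i) | exact absurd e1.symm (hne i)
    subst ebc
    rfl
  have hcard : Nat.card {m : L // ¬ g.inc p m} = 40 := by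
    rw [Nat.card_eq_fintype_card, Fintype.card_subtype_compl, ← Nat.card_eq_fintype_card,
      ← Nat.card_eq_fintype_card, g.cardL, g.five]
  obtain ⟨s, hs⟩ := ((Nat.bijective_iff_injective_and_card f).2 ⟨hf, hS.trans hcard.symm⟩).2 ⟨l, hp⟩
  have hsl : s.2.1 = l := congrArg Subtype.val hs
  exact ⟨a s.1.1 s.1.2, hsl ▸ s.2.2.1, hcol _ _⟩

theorem exists_model (p : P) : ∃ φ : M ≃ P, φ none = p ∧ ∀ x y, madj x y ↔ g.col (φ x) (φ y) := by
  classical
  haveI := Fintype.ofFinite P
  obtain ⟨ln, a₀, hln, hp', hall, ha₀, hap₀, hne₀, hon₀⟩ := g.exists_star p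
  have colp : ∀ x, g.col p x ↔ ∃ i b, x = a₀ i b := by
    intro x
    constructor
    · rintro ⟨hx, l, hl, hxl⟩
      obtain ⟨i, rfl⟩ := hall l hl
      rcases hon₀ i x hxl with h | ⟨b, h⟩
      · exact absurd h.symm hx
      · exact ⟨i, b, h⟩
    · rintro ⟨i, b, rfl⟩
      exact ⟨(hap₀ i b).symm, ln i, hp' i, ha₀ i b⟩
  have hinj₀ : Function.Injective fun ib : Fin 5 × Bool => a₀ ib.1 ib.2 := by
    rintro ⟨i, b⟩ ⟨j, c⟩ (e : a₀ i b = a₀ j c)
    have eij : i = j := hln (g.unique (hap₀ i b).symm (hp' i) (ha₀ i b) (hp' j) (e ▸ ha₀ j c))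
    subst eij
    cases b <;> cases c <;> first | rfl | exact absurd e (hne₀ i) | exact absurd e.symm (hne₀ i)
  let Z := {x : P // x ≠ p ∧ ¬ g.col p x}
  have hZ : Nat.card Z = 16 := by
    have hU : (Finset.univ.filter fun x => ¬ (x ≠ p ∧ ¬ g.col p x)) =
        insert p (Finset.univ.image fun ib : Fin 5 × Bool => a₀ ib.1 ib.2) := by
      ext x
      simp only [Finset.mem_filter, Finset.mem_univ, true_and, Finset.mem_insert, Finset.mem_image,
        Prod.exists, colp, ne_eq]
      constructor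
      · intro h
        by_contra hcon
        rw [not_or] at hcon
        exact h ⟨hcon.1, fun ⟨i, b, e⟩ => hcon.2 ⟨i, b, e.symm⟩⟩
      · rintro (h | ⟨i, b, h⟩) ⟨h1, h2⟩
        · exact h1 h
        · exact h2 ⟨i, b, h.symm⟩
    have h11 : (Finset.univ.filter fun x => ¬ (x ≠ p ∧ ¬ g.col p x)).card = 11 := by
      rw [hU, Finset.card_insert_of_notMem, Finset.card_image_of_injective _ hinj₀, Finset.card_univ,
        Fintype.card_prod, Fintype.card_fin, Fintype.card_bool]
      simp only [Finset.mem_image, Finset.mem_univ, true_and, Prod.exists, not_exists]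
      exact fun i b => hap₀ i b
    have := Finset.card_filter_add_card_filter_not (s := Finset.univ) fun x => x ≠ p ∧ ¬ g.col p x
    rw [h11, Finset.card_univ, ← Nat.card_eq_fintype_card (α := P), g.cardP] at this
    rw [Nat.card_eq_fintype_card, Fintype.card_subtype]
    omega
  obtain ⟨⟨z₀⟩⟩ : Nonempty Z ∧ True := ⟨(Nat.card_pos_iff.1 (by rw [hZ]; norm_num)).1, trivial⟩
  have hnotline : ∀ (x : Z) i, ¬ g.inc x.1 (ln i) := fun x i h =>
    x.2.2 ⟨x.2.1.symm, ln i, hp' i, h⟩
  have hproj : ∀ (x : Z) i, ∃ b, g.col x.1 (a₀ i b) := by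
    intro x i
    obtain ⟨q, hq, hc⟩ := g.proj_exists (hnotline x i)
    rcases hon₀ i q hq with rfl | ⟨b, rfl⟩
    · exact absurd (g.col_symm hc) x.2.2
    · exact ⟨b, hc⟩
  choose s₀ hs₀ using hproj
  let a : Fin 5 → Bool → P := fun i b => a₀ i (xor b (s₀ z₀ i))
  let s : Z → Vec := fun x i => xor (s₀ x i) (s₀ z₀ i)
  have hs : ∀ x i, g.col x.1 (a i (s x i)) := by
    intro x i
    show g.col x.1 (a₀ i (xor (xor (s₀ x i) (s₀ z₀ i)) (s₀ z₀ i)))
    rw [Bool.xor_assoc, Bool.xor_self, Bool.xor_false]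
    exact hs₀ x i
  have ha : ∀ i b, g.inc (a i b) (ln i) := fun i b => ha₀ i _
  have hinj : Function.Injective fun ib : Fin 5 × Bool => a ib.1 ib.2 := by
    rintro ⟨i, b⟩ ⟨j, c⟩ e
    have h := hinj₀ (a₁ := (i, xor b (s₀ z₀ i))) (a₂ := (j, xor c (s₀ z₀ j))) e
    simp only [Prod.mk.injEq] at h ⊢
    obtain ⟨rfl, h⟩ := h
    refine ⟨rfl, ?_⟩
    revert h
    cases b <;> cases c <;> cases s₀ z₀ i <;> simp
  have colp' : ∀ x, g.col p x ↔ ∃ i b, x = a i b := by
    intro x
    rw [colp]
    constructor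
    · rintro ⟨i, b, rfl⟩
      refine ⟨i, xor b (s₀ z₀ i), ?_⟩
      show a₀ i b = a₀ i _
      rw [Bool.xor_assoc, Bool.xor_self, Bool.xor_false]
    · rintro ⟨i, b, rfl⟩; exact ⟨i, _, rfl⟩
  have hsu : ∀ (x : Z) i b, g.col x.1 (a i b) → b = s x i := fun x i b h =>
    (Prod.ext_iff.1 (hinj (a₁ := (i, b)) (a₂ := (i, s x i))
      (g.proj_unique (hnotline x i) (ha i b) (ha i _) h (hs x i)))).2
  have hzero : s z₀ = fun _ => false := funext fun i => Bool.xor_self _
  have hapne : ∀ i b, a i b ≠ p := fun i b => hap₀ i _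
  have hij : ∀ {i j b c}, g.col (a i b) (a j c) → i = j ∧ b ≠ c := by
    intro i j b c h
    have hne : i = j := by
      by_contra hne
      obtain ⟨hne', l, h1, h2⟩ := h
      refine g.notri (hapne i b).symm hne' (hapne j c) (hp' i) (ha i b) h1 h2 (ha j c) (hp' j) ?_ ?_ ?_
      · intro e
        exact hne (hln (g.unique (hapne j c).symm (hp' i) (e ▸ h2) (hp' j) (ha j c)))
      · intro e
        exact hne (hln (g.unique (hapne i b).symm (hp' i) (ha i b) (hp' j) (e ▸ h1)))
      · exact fun e => hne (hln e.symm)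
    subst hne
    exact ⟨rfl, fun e => h.1 (e ▸ rfl)⟩
  have hthird : ∀ (x : Z) i, ∃ y : Z, g.col x.1 y.1 ∧ s y = flipBut i (s x) := by
    intro x i
    obtain ⟨hxa, l, hxl, hal⟩ := hs x i
    obtain ⟨q, r, hxq, hxr, hqr, hq, hr, hon⟩ := g.two_others hxl
    obtain ⟨y, hy, hxy, hay⟩ : ∃ y, g.inc y l ∧ x.1 ≠ y ∧ a i (s x i) ≠ y := by
      rcases hon _ hal with e | e | e
      · exact absurd e.symm hxa
      · exact ⟨r, hr, hxr, e ▸ hqr⟩
      · exact ⟨q, hq, hxq, e ▸ hqr.symm⟩
    have hpl : ¬ g.inc p l := fun h => x.2.2 ⟨x.2.1.symm, l, h, hxl⟩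
    have hyp : y ≠ p := fun e => hpl (e ▸ hy)
    have hyn : ¬ g.col p y := fun h =>
      hay (g.proj_unique hpl hal hy ((colp' _).2 ⟨i, _, rfl⟩) h)
    have hcolxy : g.col x.1 y := ⟨hxy, l, hxl, hy⟩
    refine ⟨⟨y, hyp, hyn⟩, hcolxy, funext fun j => ?_⟩
    show s ⟨y, hyp, hyn⟩ j = if j = i then s x j else !(s x j)
    split_ifs with hji
    · subst hji
      exact (hsu ⟨y, hyp, hyn⟩ j (s x j) ⟨hay.symm, l, hy, hal⟩).symm
    · have hnl : ∀ b, ¬ g.inc (a j b) l := fun b h => by
        rcases eq_or_ne (a j b) (a i (s x i)) with e | e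
        · exact hji (Prod.ext_iff.1 (hinj (a₁ := (j, b)) (a₂ := (i, s x i)) e)).1
        · exact hji (hij ⟨e, l, h, hal⟩).1
      obtain ⟨w, hw, hcw⟩ := g.proj_exists (hnl (!(s x j)))
      have hw3 : w = x.1 ∨ w = a i (s x i) ∨ w = y := by
        by_contra hcon
        simp only [not_or] at hcon
        have h3 := g.three l
        rw [Nat.card_eq_fintype_card, Fintype.card_subtype] at h3
        have hsub : ({w, x.1, a i (s x i), y} : Finset P) ⊆ Finset.univ.filter fun u => g.inc u l := by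
          intro u hu
          simp only [Finset.mem_insert, Finset.mem_singleton] at hu
          simp only [Finset.mem_filter, Finset.mem_univ, true_and]
          rcases hu with rfl | rfl | rfl | rfl
          · exact hw
          · exact hxl
          · exact hal
          · exact hy
        have h4 := Finset.card_le_card hsub
        rw [h3, Finset.card_insert_of_notMem (by simp [hcon.1, hcon.2.1, hcon.2.2]),
          Finset.card_insert_of_notMem (by simp [hxa, hxy]),
          Finset.card_pair hay] at h4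
        omega
      rcases hw3 with rfl | rfl | rfl
      · have := hsu x j _ (g.col_symm hcw)
        cases hb : s x j <;> rw [hb] at this <;> simp at this
      · exact absurd (hij hcw).1 hji
      · exact (hsu ⟨w, hyp, hyn⟩ j _ (g.col_symm hcw)).symm
  choose third hthirdcol hthirdeq using hthird
  have himg : ∀ v : Even5, ∃ x : Z, s x = v.1 := by
    intro v
    rcases reach v.1 (s z₀) (by rw [hzero, v.2]; rfl) with h | ⟨i, h⟩ | ⟨i, j, h⟩
    · exact ⟨z₀, h.symm⟩
    · exact ⟨third z₀ i, (hthirdeq z₀ i).trans h.symm⟩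
    · exact ⟨third (third z₀ j) i, by rw [hthirdeq, hthirdeq, h]⟩
  choose ψ hψ using himg
  have hψinj : Function.Injective ψ := fun v w e => Subtype.ext (by rw [← hψ v, ← hψ w, e])
  have hψbij : Function.Bijective ψ :=
    (Nat.bijective_iff_injective_and_card ψ).2 ⟨hψinj, by rw [hZ, Nat.card_eq_fintype_card, card_even]⟩
  have hsinj : ∀ x y : Z, s x = s y → x = y := by
    intro x y e
    obtain ⟨v, rfl⟩ := hψbij.2 x
    obtain ⟨w, rfl⟩ := hψbij.2 y
    rw [hψ, hψ] at e
    rw [Subtype.ext e]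
  let φ : M → P := fun m => match m with
    | none => p
    | some (.inl ib) => a ib.1 ib.2
    | some (.inr v) => (ψ v).1
  have hφinj : Function.Injective φ := by
    rintro (_ | ⟨i, b⟩ | v) (_ | ⟨j, c⟩ | w) e
    · rfl
    · exact absurd e.symm (hapne j c)
    · exact absurd e.symm (ψ w).2.1
    · exact absurd e (hapne i b)
    · exact congrArg (fun z => some (Sum.inl z)) (hinj e)
    · exact absurd ((colp' _).2 ⟨i, b, e.symm⟩) (ψ w).2.2
    · exact absurd e (ψ v).2.1
    · exact absurd ((colp' _).2 ⟨j, c, e⟩) (ψ v).2.2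
    · exact congrArg (fun z => some (Sum.inr z)) (hψinj (Subtype.ext e))
  have hφbij : Function.Bijective φ := (Nat.bijective_iff_injective_and_card φ).2 ⟨hφinj, by
    rw [g.cardP, Nat.card_eq_fintype_card, Fintype.card_option, Fintype.card_sum, Fintype.card_prod,
      Fintype.card_fin, Fintype.card_bool, card_even]⟩
  refine ⟨Equiv.ofBijective φ hφbij, rfl, ?_⟩
  have hcpa : ∀ i b, g.col p (a i b) := fun i b => (colp' _).2 ⟨i, b, rfl⟩
  have haa : ∀ i b c, b ≠ c → g.col (a i b) (a i c) := fun i b c h =>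
    ⟨fun e => h (Prod.ext_iff.1 (hinj (a₁ := (i, b)) (a₂ := (i, c)) e)).2, ln i, ha i b, ha i c⟩
  have hax : ∀ (v : Even5) i b, v.1 i = b ↔ g.col (ψ v).1 (a i b) := by
    intro v i b
    rw [← hψ v]
    exact ⟨fun e => e ▸ hs _ i, fun h => (hsu _ i b h).symm⟩
  have hxx : ∀ v w : Even5, (∃ i, w.1 = flipBut i v.1) ↔ g.col (ψ v).1 (ψ w).1 := by
    intro v w
    constructor
    · rintro ⟨i, e⟩
      have : ψ w = third (ψ v) i := hsinj _ _ (by rw [hψ, hthirdeq, hψ, e])
      rw [this]
      exact hthirdcol _ i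
    · intro h
      obtain ⟨hne, l, h1, h2⟩ := h
      have hpl : ¬ g.inc p l := fun h => (ψ v).2.2 ⟨(ψ v).2.1.symm, l, h, h1⟩
      obtain ⟨q, hq, hcq⟩ := g.proj_exists hpl
      obtain ⟨i, b, rfl⟩ := (colp' q).1 hcq
      have hb : b = s (ψ v) i := hsu _ i b ⟨fun e => (ψ v).2.2 (e ▸ hcq), l, h1, hq⟩
      have hbw : b = s (ψ w) i := hsu _ i b ⟨fun e => (ψ w).2.2 (e ▸ hcq), l, h2, hq⟩
      refine ⟨i, funext fun j => ?_⟩
      show w.1 j = if j = i then v.1 j else !(v.1 j)
      rw [← hψ v, ← hψ w]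
      split_ifs with hji
      · subst hji
        rw [← hb, ← hbw]
      · cases hv : s (ψ v) j <;> cases hw : s (ψ w) j <;> simp only [Bool.not_false, Bool.not_true] <;> exfalso
        all_goals
          have e := g.proj_unique (p := a j (s (ψ v) j)) (l := l) (fun h' => ?_) h1 h2
            (g.col_symm (hs _ j)) (by rw [hv, ← hw]; exact g.col_symm (hs _ j))
          · exact hne e
          · rcases eq_or_ne (a j (s (ψ v) j)) (a i b) with e | e
            · exact hji (Prod.ext_iff.1 (hinj (a₁ := (j, s (ψ v) j)) (a₂ := (i, b)) e)).1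
            · exact hji (hij ⟨e, l, h', hq⟩).1
  rintro (_ | ⟨i, b⟩ | v) (_ | ⟨j, c⟩ | w)
  · exact iff_of_false id fun h => h.1 rfl
  · exact iff_of_true trivial (hcpa j c)
  · exact iff_of_false id (ψ w).2.2
  · exact iff_of_true trivial (g.col_symm (hcpa i b))
  · exact ⟨fun ⟨e, h⟩ => by subst e; exact haa i b c h, fun h => hij h⟩
  · exact (hax w i b).trans ⟨g.col_symm, g.col_symm⟩
  · exact iff_of_false id fun h => (ψ v).2.2 (g.col_symm h)
  · exact hax v j c
  · exact hxx v w

end Geo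

end CfsgLib.PSpFourInvol.Quad
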