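import Cfsg.Agent.PSpFourInvol.Order
import Cfsg.Agent.PSpFourInvol.Quadrangle

/-!
# The action on the conjugates of `E`
-/

set_option autoImplicit false
set_option linter.style.haveILetI false
set_option linter.unusedSectionVars false

namespace CfsgLib.PSpFourInvol

open Subgroup

namespace Setup

variable {G : Type*} [Group G] [Finite G] (D : Setup G)

/-- The conjugates of `E`. -/
abbrev Pt : Type _ := G ⧸ normalizer (D.E : Set G)

/-- The conjugates of `t`. -/
abbrev Ln : Type _ := {x : G // IsConj D.t x}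

/-- Incidence. -/
def inc (p : D.Pt) (l : D.Ln) : Prop := ∃ g : G, (g : D.Pt) = p ∧ g⁻¹ * l.1 * g ∈ D.E

theorem inc_mk (g : G) (l : D.Ln) : D.inc (g : D.Pt) l ↔ g⁻¹ * l.1 * g ∈ D.E := by
  refine ⟨fun ⟨h, e, hh⟩ => ?_, fun h => ⟨g, rfl, h⟩⟩
  have hn : g⁻¹ * h ∈ normalizer (D.E : Set G) := QuotientGroup.eq.1 e.symm
  have := (mem_normalizer_iff.1 hn _).1 hh
  rwa [show g⁻¹ * h * (h⁻¹ * l.1 * h) * (g⁻¹ * h)⁻¹ = g⁻¹ * l.1 * g by group] at this

/-- Conjugation of a line. -/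
def moveLn (c : G) (l : D.Ln) : D.Ln := ⟨c * l.1 * c⁻¹, l.2.trans (isConj_iff.2 ⟨c, rfl⟩)⟩

theorem inc_move (c : G) (p : D.Pt) (l : D.Ln) : D.inc (c • p) (D.moveLn c l) ↔ D.inc p l := by
  induction p using QuotientGroup.induction_on with
  | H g =>
    rw [show c • (g : D.Pt) = ((c * g : G) : D.Pt) from rfl, D.inc_mk, D.inc_mk]
    show (c * g)⁻¹ * (c * l.1 * c⁻¹) * (c * g) ∈ D.E ↔ _
    rw [show (c * g)⁻¹ * (c * l.1 * c⁻¹) * (c * g) = g⁻¹ * l.1 * g by group]

theorem moveLn_injective (c : G) : Function.Injective (D.moveLn c) := fun _ _ e =>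
  Subtype.ext (mul_left_cancel (mul_right_cancel (congrArg Subtype.val e)))

/-- The line `t`. -/
def t0Ln : D.Ln := ⟨D.t, IsConj.refl _⟩

variable {D} (hD : D.Good)
include hD

theorem pts_t {p : D.Pt} (h : D.inc p D.t0Ln) :
    ∃ c ∈ centralizer ({D.t} : Set G), (c : D.Pt) = p := by
  obtain ⟨g, rfl, hg⟩ := h
  have hg' : g⁻¹ * D.t * g⁻¹⁻¹ ∈ D.E := by rwa [inv_inv]
  obtain ⟨n, hn, e⟩ := D.control D.t_mem_E hg'
  refine ⟨g * n, mem_centralizer_singleton_iff.2 (mul_inv_eq_iff_eq_mul.1 ?_), ?_⟩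
  · rw [show g * n * D.t * (g * n)⁻¹ = g * (n * D.t * n⁻¹) * g⁻¹ by group, e]; group
  · exact QuotientGroup.eq.2 (by
      rw [show (g * n)⁻¹ * g = n⁻¹ by group]; exact inv_mem hn)

theorem five_lines (p : D.Pt) : Nat.card {l // D.inc p l} = 5 := by
  classical
  induction p using QuotientGroup.induction_on with
  | H g =>
  let five : Finset ℕ := {1, 8, 11, 13, 15}
  have hlt : ∀ i : five, (i : ℕ) < 16 := fun i => by
    have h := i.2
    simp only [five, Finset.mem_insert, Finset.mem_singleton] at h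
    omega
  have hty : ∀ i : five, IsConj D.t (D.v i) := fun i => by
    have h := i.2
    simp only [five, Finset.mem_insert, Finset.mem_singleton] at h
    exact (conj_v_iff hD (hlt i)).2 (by simpa using h)
  refine (Nat.card_eq_of_bijective (fun i : five =>
    (⟨D.moveLn g ⟨D.v i, hty i⟩, (D.inc_mk g _).2 (by
      show g⁻¹ * (g * D.v i * g⁻¹) * g ∈ D.E
      rw [show g⁻¹ * (g * D.v i * g⁻¹) * g = D.v i by group]
      exact D.v_mem (hlt i))⟩ : {l // D.inc (g : D.Pt) l})) ⟨?_, ?_⟩).symm.trans (by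
        rw [Nat.card_eq_finsetCard]; rfl)
  · intro i j e
    exact Subtype.ext (D.v_inj (hlt i) (hlt j)
      (congrArg Subtype.val (D.moveLn_injective g (congrArg Subtype.val e))))
  · rintro ⟨l, hl⟩
    obtain ⟨k, hk, ek⟩ := (D.inc_mk g l).1 hl
    have h5 := (conj_v_iff hD hk).1 (l.2.trans (isConj_iff.2 ⟨g⁻¹, by rw [inv_inv]; exact ek.symm⟩))
    refine ⟨⟨k, by simpa [five] using h5⟩, Subtype.ext (Subtype.ext ?_)⟩
    show g * D.v k * g⁻¹ = l.1
    rw [ek]; group

theorem count_three : Nat.card {p : D.Pt // D.inc p D.t0Ln} = 3 := by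
  classical
  set C := centralizer ({D.t} : Set G)
  set K := (normalizer (D.E : Set G)).subgroupOf C
  have h192 : Nat.card K = 192 := by
    rw [← count_nE, ← D.ncard_image,
      Nat.card_congr ((Equiv.subtypeSubtypeEquivSubtypeExists _ _).trans (Equiv.refl _))]
    refine Nat.card_congr (Equiv.subtypeEquivRight fun g => ?_)
    constructor
    · rintro ⟨hc, hn⟩
      obtain ⟨a, rfl⟩ := D.mem_cent.1 hc
      obtain ⟨b, hb, e⟩ := D.exists_rep a
      exact ⟨b, List.mem_filter.2 ⟨hb, D.nE_of_mem (e ▸ hn)⟩, e.symm⟩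
    · rintro ⟨b, hb, rfl⟩
      exact ⟨D.mem_cent.2 ⟨b, rfl⟩, D.nE_mem (List.mem_filter.1 hb).1 (List.mem_filter.1 hb).2⟩
  have hidx : K.index = 3 := by
    have h := K.card_mul_index
    rw [h192, D.card_cent] at h
    omega
  rw [← hidx, index_eq_card]
  refine (Nat.card_eq_of_bijective (Quotient.lift (fun c : C => (⟨((c : G) : D.Pt), ?_⟩ :
    {p : D.Pt // D.inc p D.t0Ln})) ?_) ⟨?_, ?_⟩).symm
  · rw [D.inc_mk]
    show (c : G)⁻¹ * D.t * c ∈ D.E
    rw [mul_assoc, ← mem_centralizer_singleton_iff.1 c.2, inv_mul_cancel_left]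
    exact D.t_mem_E
  · intro a b hab
    exact Subtype.ext (QuotientGroup.eq.2 (mem_subgroupOf.1 (QuotientGroup.leftRel_apply.1 hab)))
  · intro a b
    induction a using Quotient.inductionOn
    induction b using Quotient.inductionOn
    intro e
    exact Quotient.sound (QuotientGroup.leftRel_apply.2 (mem_subgroupOf.2
      (QuotientGroup.eq.1 (congrArg Subtype.val e))))
  · rintro ⟨p, hp⟩
    obtain ⟨c, hc, rfl⟩ := pts_t hD hp
    exact ⟨Quotient.mk _ ⟨c, hc⟩, rfl⟩

theorem exists_move (l : D.Ln) : ∃ c, D.moveLn c D.t0Ln = l := by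
  obtain ⟨c, hc⟩ := isConj_iff.1 l.2
  exact ⟨c, Subtype.ext hc⟩

theorem three_points (l : D.Ln) : Nat.card {p : D.Pt // D.inc p l} = 3 := by
  obtain ⟨c, rfl⟩ := exists_move hD l
  rw [← count_three hD]
  exact (Nat.card_congr ((MulAction.toPerm c).subtypeEquiv fun p => (D.inc_move c p D.t0Ln).symm)).symm

theorem normal_pos (l : D.Ln) (p q : D.Pt) (hp : D.inc p l) (hq : D.inc q l) :
    ∃ d : G, d • ((1 : G) : D.Pt) = p ∧ D.moveLn d D.t0Ln = l ∧
      ∃ b ∈ allC, d • ((D.ι b : G) : D.Pt) = q ∧ (p ≠ q → nE b = false) := by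
  obtain ⟨c, rfl⟩ := exists_move hD l
  have hback : ∀ r : D.Pt, D.inc r (D.moveLn c D.t0Ln) → D.inc (c⁻¹ • r) D.t0Ln := fun r hr => by
    rw [← D.inc_move c]
    rwa [smul_inv_smul]
  obtain ⟨c₁, hc₁, e₁⟩ := pts_t hD (hback p hp)
  obtain ⟨c₂, hc₂, e₂⟩ := pts_t hD (hback q hq)
  obtain ⟨a, ha⟩ := D.mem_cent.1 (mul_mem (inv_mem hc₁) hc₂)
  obtain ⟨b, hb, hab⟩ := D.exists_rep a
  have hp' : (c * c₁) • ((1 : G) : D.Pt) = p := by
    rw [show (c * c₁) • ((1 : G) : D.Pt) = c • ((c₁ * 1 : G) : D.Pt) from mul_smul _ _ _, mul_one, e₁,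
      smul_inv_smul]
  have hq' : (c * c₁) • ((D.ι b : G) : D.Pt) = q := by
    rw [show (c * c₁) • ((D.ι b : G) : D.Pt) = c • ((c₁ * D.ι b : G) : D.Pt) from mul_smul _ _ _, ← hab, ha,
      mul_inv_cancel_left, e₂, smul_inv_smul]
  refine ⟨c * c₁, hp', ?_, b, hb, hq', fun hne => ?_⟩
  · refine Subtype.ext ?_
    show c * c₁ * D.t * (c * c₁)⁻¹ = c * D.t * c⁻¹
    rw [show c * c₁ * D.t * (c * c₁)⁻¹ = c * (c₁ * D.t * c₁⁻¹) * c⁻¹ by group,
      mem_centralizer_singleton_iff.1 hc₁, mul_inv_cancel_right]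
  · by_contra hn
    refine hne ?_
    rw [← hp', ← hq', show ((D.ι b : G) : D.Pt) = ((1 : G) : D.Pt) from QuotientGroup.eq.2
      (by rw [mul_one]; exact inv_mem (D.nE_mem hb (by simpa using hn)))]

theorem at_one {d : G} {l : D.Ln} (h : D.inc (d • ((1 : G) : D.Pt)) l) (hne : l ≠ D.moveLn d D.t0Ln) :
    ∃ k ∈ [8, 11, 13, 15], l.1 = d * D.v k * d⁻¹ := by
  rw [show d • ((1 : G) : D.Pt) = ((d * 1 : G) : D.Pt) from rfl, mul_one, D.inc_mk] at h
  obtain ⟨k, hk, ek⟩ := h
  have h5 := (conj_v_iff hD hk).1 (l.2.trans (isConj_iff.2 ⟨d⁻¹, by rw [inv_inv]; exact ek.symm⟩))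
  have el : l.1 = d * D.v k * d⁻¹ := by rw [ek]; group
  refine ⟨k, ?_, el⟩
  have hk1 : k ≠ 1 := by
    rintro rfl
    exact hne (Subtype.ext (by rw [el, D.v_one]; rfl))
  fin_cases h5 <;> simp at hk1 ⊢

theorem at_b {d : G} {b : W} (hb : b ∈ allC) {l : D.Ln} (h : D.inc (d • ((D.ι b : G) : D.Pt)) l)
    (hne : l ≠ D.moveLn d D.t0Ln) : ∃ k ∈ [8, 11, 13, 15], l.1 = d * D.ι (cj b (vec k)) * d⁻¹ := by
  rw [show d • ((D.ι b : G) : D.Pt) = (d * D.ι b) • ((1 : G) : D.Pt) by
    rw [mul_smul]; congr 1; show _ = ((D.ι b * 1 : G) : D.Pt); rw [mul_one]] at h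
  have hne' : l ≠ D.moveLn (d * D.ι b) D.t0Ln := fun e => hne (e.trans (Subtype.ext (by
    show d * D.ι b * D.t * (d * D.ι b)⁻¹ = d * D.t * d⁻¹
    rw [show d * D.ι b * D.t * (d * D.ι b)⁻¹ = d * (D.ι b * D.t * (D.ι b)⁻¹) * d⁻¹ by group,
      D.ι_comm_t, mul_inv_cancel_right])))
  obtain ⟨k, hk, e⟩ := at_one hD h hne'
  refine ⟨k, hk, ?_⟩
  rw [e, D.cj_eq, v]
  group

theorem unique_line {p q : D.Pt} {l m : D.Ln} (hpq : p ≠ q) (h1 : D.inc p l) (h2 : D.inc q l)
    (h3 : D.inc p m) (h4 : D.inc q m) : l = m := by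
  by_contra hlm
  obtain ⟨d, hdp, hdl, b, hb, hdq, hnb⟩ := normal_pos hD l p q h1 h2
  have hne : m ≠ D.moveLn d D.t0Ln := by rw [hdl]; exact Ne.symm hlm
  obtain ⟨k, hk, ek⟩ := at_one hD (hdp ▸ h3) hne
  obtain ⟨j, hj, ej⟩ := at_b hD hb (hdq ▸ h4) hne
  have h := List.all_eq_true.1 other_E b hb
  rw [hnb hpq, Bool.false_or, List.all_eq_true] at h
  have h' := List.all_eq_true.1 (h j hj) k hk
  rw [Bool.and_eq_true, Bool.not_eq_true'] at h'
  have e : eqz (cj b (vec j)) (vec k) = true :=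
    D.ι_eq_iff.1 (mul_left_cancel (mul_right_cancel (ej.symm.trans ek)))
  rw [e] at h'
  exact Bool.false_ne_true h'.1.symm

theorem no_triangle {p q r : D.Pt} {l m k : D.Ln} (hpq : p ≠ q) (h1 : D.inc p l) (h2 : D.inc q l) (h3 : D.inc q m)
    (h4 : D.inc r m) (h5 : D.inc r k) (h6 : D.inc p k) (hlm : l ≠ m) (hmk : m ≠ k) (hkl : k ≠ l) : False := by
  obtain ⟨d, hdp, hdl, b, hb, hdq, hnb⟩ := normal_pos hD l p q h1 h2
  obtain ⟨i, hi, ei⟩ := at_one hD (hdp ▸ h6) (hdl ▸ hkl)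
  obtain ⟨j, hj, ej⟩ := at_b hD hb (hdq ▸ h3) (hdl ▸ hlm.symm)
  have h := List.all_eq_true.1 other_E b hb
  rw [hnb hpq, Bool.false_or, List.all_eq_true] at h
  have h' := List.all_eq_true.1 (h j hj) i hi
  rw [Bool.and_eq_true, Bool.not_eq_true', Bool.not_eq_true'] at h'
  induction r using QuotientGroup.induction_on with
  | H g =>
    have hc := D.E_comm ((D.inc_mk g m).1 h4) ((D.inc_mk g k).1 h5)
    have hmk' : m.1 * k.1 = k.1 * m.1 := by
      calc m.1 * k.1 = g * (g⁻¹ * m.1 * g * (g⁻¹ * k.1 * g)) * g⁻¹ := by group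
        _ = k.1 * m.1 := by rw [hc]; group
    rw [ei, ej] at hmk'
    have hc' : D.ι (cj b (vec j)) * D.v i = D.v i * D.ι (cj b (vec j)) := by
      calc D.ι (cj b (vec j)) * D.v i =
          d⁻¹ * (d * D.ι (cj b (vec j)) * d⁻¹ * (d * D.v i * d⁻¹)) * d := by group
        _ = _ := by rw [hmk']; group
    have e : comm (cj b (vec j)) (vec i) = true := D.comm_iff.1 hc'
    rw [e] at h'
    exact Bool.false_ne_true h'.2.symm

omit hD in
/-- Left translation on the conjugates of `E`. -/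
def actHom : G →* Equiv.Perm D.Pt := MulAction.toPermHom G D.Pt

theorem card_pt : Nat.card D.Pt = 27 := by
  have h := (normalizer (D.E : Set G)).card_mul_index
  rw [card_normalizer hD, card_G hD, index_eq_card] at h
  change Nat.card (G ⧸ normalizer (D.E : Set G)) = 27
  omega

omit hD in
theorem card_class (x : G) :
    Nat.card {y : G // IsConj x y} * Nat.card (centralizer ({x} : Set G)) = Nat.card G := by
  rw [← (centralizer ({x} : Set G)).index_mul_card, index_eq_card]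
  congr 1
  refine (Nat.card_eq_of_bijective (Quotient.lift (fun c : G =>
    (⟨c * x * c⁻¹, isConj_iff.2 ⟨c, rfl⟩⟩ : {y : G // IsConj x y})) ?_) ⟨?_, ?_⟩).symm
  · intro a b hab
    refine Subtype.ext ?_
    have h := mem_centralizer_singleton_iff.1 (QuotientGroup.leftRel_apply.1 hab)
    calc a * x * a⁻¹ = a * (x * (a⁻¹ * b)) * b⁻¹ := by group
      _ = b * x * b⁻¹ := by rw [← h]; group
  · intro a b
    induction a using Quotient.inductionOn with
    | _ a =>
    induction b using Quotient.inductionOn with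
    | _ b =>
    intro e
    refine Quotient.sound (QuotientGroup.leftRel_apply.2 (mem_centralizer_singleton_iff.2 ?_))
    have e' : a * x * a⁻¹ = b * x * b⁻¹ := congrArg Subtype.val e
    calc a⁻¹ * b * x = a⁻¹ * (b * x * b⁻¹) * b := by group
      _ = x * (a⁻¹ * b) := by rw [← e']; group
  · rintro ⟨y, hy⟩
    obtain ⟨c, rfl⟩ := isConj_iff.1 hy
    exact ⟨Quotient.mk _ c, rfl⟩

theorem card_ln : Nat.card D.Ln = 45 := by
  have h := card_class D.t
  rw [D.card_cent, card_G hD] at h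
  change Nat.card {x : G // IsConj D.t x} = 45
  omega

theorem actHom_injective : Function.Injective (actHom (D := D)) := by
  rw [← MonoidHom.ker_eq_bot_iff, eq_bot_iff_forall]
  set K := MonoidHom.ker (actHom (D := D))
  have hKn : K.Normal := MonoidHom.normal_ker _
  have hKN : ∀ y ∈ K, y ∈ normalizer (D.E : Set G) := by
    intro y hy
    have h : ((y * 1 : G) : D.Pt) = ((1 : G) : D.Pt) :=
      congrArg (fun σ : Equiv.Perm D.Pt => σ ((1 : G) : D.Pt)) (MonoidHom.mem_ker.1 hy)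
    have h' := QuotientGroup.eq.1 h.symm
    rwa [inv_one, one_mul, mul_one] at h'
  have ht : D.t ∉ K := by
    intro hk
    have hsub : ∀ y : D.Ln, (y : G) ∈ D.E := fun y => by
      obtain ⟨c, hc⟩ := isConj_iff.1 y.2
      exact mem_E_of_mem_normalizer hD (hKN _ (hc ▸ hKn.conj_mem _ hk c)) y.2
    have := Nat.card_le_card_of_injective (fun y : D.Ln => (⟨y.1, hsub y⟩ : D.E))
      (fun a b e => Subtype.ext (congrArg (fun z : D.E => (z : G)) e))
    rw [card_ln hD, D.card_E] at this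
    omega
  have hEz : ∀ x ∈ D.E, x ∈ K → x = 1 := by
    intro x hx hxk
    by_contra hx1
    have hxo : orderOf x = 2 := orderOf_eq_prime (by rw [sq]; exact D.E_sq hx) hx1
    have hclosed : ∀ {a b : G}, IsConj a b → a ∈ K → b ∈ K := fun {a b} h ha => by
      obtain ⟨c, rfl⟩ := isConj_iff.1 h
      exact hKn.conj_mem a ha c
    rcases all_invol hD x hxo with htx | hu
    · exact ht (hclosed htx.symm hxk)
    · have h9 : ∀ k < 16, k ≠ 0 → k ∉ [1, 8, 11, 13, 15] → D.v k ∈ K := fun k hk h0 hne =>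
        hclosed (hu.symm.trans ((all_invol hD _ (v_ord hD hk h0)).resolve_left
          fun h => hne ((conj_v_iff hD hk).1 h))) hxk
      refine ht ?_
      have := mul_mem (h9 2 (by norm_num) (by norm_num) (by decide)) (h9 3 (by norm_num) (by norm_num) (by decide))
      rwa [D.v_mul (by norm_num) (by norm_num), show 2 ^^^ 3 = 1 from rfl, D.v_one] at this
  intro n hn
  refine hEz n (D.cent_E_le fun e he => ?_) hn
  have h1 : n * e * n⁻¹ * e⁻¹ ∈ D.E := mul_mem ((mem_normalizer_iff.1 (hKN n hn) e).1 he) (inv_mem he)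
  have h2 : n * e * n⁻¹ * e⁻¹ ∈ K := by
    rw [show n * e * n⁻¹ * e⁻¹ = n * (e * n⁻¹ * e⁻¹) by group]
    exact mul_mem hn (hKn.conj_mem _ (inv_mem hn) e)
  have h3 := hEz _ h1 h2
  rwa [mul_inv_eq_one, mul_inv_eq_iff_eq_mul] at h3

/-- The quadrangle. -/
def geo : Quad.Geo D.Pt D.Ln where
  inc := D.inc
  five := five_lines hD
  three := three_points hD
  unique hpq h1 h2 h3 h4 := unique_line hD hpq h1 h2 h3 h4
  notri hpq _ _ h1 h2 h3 h4 h5 h6 hlm hmk hkl := no_triangle hD hpq h1 h2 h3 h4 h5 h6 hlm hmk hkl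
  cardP := card_pt hD
  cardL := card_ln hD

theorem col_smul (c : G) (p q : D.Pt) : (geo hD).col (c • p) (c • q) ↔ (geo hD).col p q := by
  constructor
  · rintro ⟨hne, l, h1, h2⟩
    have hl : l = D.moveLn c (D.moveLn c⁻¹ l) := Subtype.ext (by
      show l.1 = c * (c⁻¹ * l.1 * c⁻¹⁻¹) * c⁻¹
      group)
    rw [hl] at h1 h2
    exact ⟨fun e => hne (by rw [e]), _, (D.inc_move c p _).1 h1, (D.inc_move c q _).1 h2⟩
  · rintro ⟨hne, l, h1, h2⟩
    exact ⟨fun e => hne (MulAction.injective c e), D.moveLn c l, (D.inc_move c p l).2 h1, (D.inc_move c q l).2 h2⟩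

theorem exists_embed : ∃ f : G →* Quad.aut, Function.Injective f := by
  obtain ⟨φ, -, hφ⟩ := (geo hD).exists_model ((1 : G) : D.Pt)
  have hmem : ∀ g, φ.symm.permCongrHom (actHom (D := D) g) ∈ Quad.aut := by
    intro g x y
    show Quad.madj (φ.symm (g • φ x)) (φ.symm (g • φ y)) ↔ _
    rw [hφ, hφ, φ.apply_symm_apply, φ.apply_symm_apply, col_smul hD]
  refine ⟨(φ.symm.permCongrHom.toMonoidHom.comp (actHom (D := D))).codRestrict Quad.aut hmem, fun a b e => ?_⟩
  exact actHom_injective hD (φ.symm.permCongrHom.injective (congrArg Subtype.val e))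

end Setup

/-- Two groups of order 25920 with such a centraliser and without subgroups of index two are isomorphic. -/
theorem iso_of_setups {G : Type*} [Group G] [Finite G] {G' : Type*} [Group G'] [Finite G']
    (D₀ : Setup G) (hG : ∀ H : Subgroup G, H.index ≠ 2) (D₀' : Setup G') (hG' : ∀ H : Subgroup G', H.index ≠ 2) :
    Nonempty (G ≃* G') := by
  obtain ⟨D, hD⟩ := D₀.exists_good hG
  obtain ⟨D', hD'⟩ := D₀'.exists_good hG'
  obtain ⟨f, hf⟩ := Setup.exists_embed hD
  obtain ⟨f', hf'⟩ := Setup.exists_embed hD'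
  have hA : Nat.card f.range = 25920 := by
    rw [← Nat.card_congr (MonoidHom.ofInjective hf).toEquiv, Setup.card_G hD]
  have hB : Nat.card f'.range = 25920 := by
    rw [← Nat.card_congr (MonoidHom.ofInjective hf').toEquiv, Setup.card_G hD']
  have hidx : f'.range.index ≤ 2 := by
    have h := f'.range.card_mul_index
    rw [hB] at h
    have := Quad.card_aut
    omega
  have hle : f.range ≤ f'.range := by
    have h1 : f'.range.relIndex f.range ≤ 2 := by
      refine le_trans ?_ hidx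
      rw [← relIndex_top_right]
      exact relIndex_le_of_le_right le_top (by rw [relIndex_top_right]; exact index_ne_zero_of_finite)
    have h0 : f'.range.relIndex f.range ≠ 0 := index_ne_zero_of_finite
    rcases (show f'.range.relIndex f.range = 1 ∨ f'.range.relIndex f.range = 2 by omega) with h | h
    · exact relIndex_eq_one.1 h
    · exfalso
      refine hG ((f'.range.subgroupOf f.range).comap f.rangeRestrict) ?_
      rw [index_comap_of_surjective _ f.rangeRestrict_surjective]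
      exact h
  have heq := eq_of_le_of_card_ge hle (by rw [hA, hB])
  exact ⟨((MonoidHom.ofInjective hf).trans (MulEquiv.subgroupCongr heq)).trans (MonoidHom.ofInjective hf').symm⟩

end CfsgLib.PSpFourInvol
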