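import Mathlib

/-!
# Linear maps of `F₂⁴` generated over the automiser of the first point
-/

set_option autoImplicit false

namespace CfsgLib.PSpFourInvol

/-- A linear map by the images of the four basis vectors. -/
abbrev Map4 : Type := ℕ × ℕ × ℕ × ℕ

/-- Application. -/
def app (g : Map4) (k : ℕ) : ℕ :=
  ((if k.testBit 0 then g.1 else 0) ^^^ (if k.testBit 1 then g.2.1 else 0)) ^^^
    ((if k.testBit 2 then g.2.2.1 else 0) ^^^ (if k.testBit 3 then g.2.2.2 else 0))

/-- Composition. -/
def comp (g h : Map4) : Map4 := (app g h.1, app g h.2.1, app g h.2.2.1, app g h.2.2.2)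

/-- The stabiliser of the first point. -/
def pList : List Map4 :=
  [(1, 2, 4, 8),
   (1, 2, 5, 11),
   (1, 3, 4, 13),
   (1, 3, 5, 15),
   (1, 4, 6, 8),
   (1, 4, 7, 13),
   (1, 5, 6, 15),
   (1, 5, 7, 11),
   (1, 6, 2, 8),
   (1, 6, 3, 15),
   (1, 7, 2, 11),
   (1, 7, 3, 13)]

/-- The admissible maps with first image `8`. -/
def eightList : List Map4 :=
  [(8, 2, 6, 1),
   (8, 2, 14, 11),
   (8, 4, 2, 1),
   (8, 4, 10, 13),
   (8, 6, 4, 1),
   (8, 6, 12, 15),
   (8, 10, 6, 15),
   (8, 10, 14, 13),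
   (8, 12, 2, 11),
   (8, 12, 10, 15),
   (8, 14, 4, 13),
   (8, 14, 12, 11)]

/-- The admissible maps with first image `9`. -/
def nineList : List Map4 :=
  [(9, 2, 6, 8),
   (9, 2, 15, 3),
   (9, 4, 2, 8),
   (9, 4, 11, 5),
   (9, 6, 4, 8),
   (9, 6, 13, 7),
   (9, 11, 6, 7),
   (9, 11, 15, 5),
   (9, 13, 2, 3),
   (9, 13, 11, 7),
   (9, 15, 4, 5),
   (9, 15, 13, 3)]

/-- Membership by decidable equality. -/
def inList (g : Map4) (l : List Map4) : Bool := l.any fun a => a == g

/-- A forbidden element. -/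
def badMap (h : Map4) : Bool := h.1 == 1 && !inList h pList

/-- Injectivity. -/
def inj4 (g : Map4) : Bool := (List.range 16).all fun k => k == 0 || !(app g k == 0)

/-- Some short word in `g` and the stabiliser is forbidden. -/
def refuted (g : Map4) : Bool :=
  let l := pList.map (comp g)
  l.any (fun a => badMap (comp a g)) || l.any (fun a => l.any fun b => badMap (comp (comp a b) g)) ||
    l.any (fun a => l.any fun b => l.any fun c => badMap (comp (comp (comp a b) c) g))

/-- All maps with a given first image. -/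
def withFirst (x : ℕ) : List Map4 :=
  (List.range 16).flatMap fun a => (List.range 16).flatMap fun b => (List.range 16).map fun c => (x, a, b, c)

theorem check_two : (withFirst 2).all (fun g => !inj4 g || refuted g) = true := by decide +kernel

theorem check_eight : (withFirst 8).all (fun g => !inj4 g || refuted g || inList g eightList) = true := by
  decide +kernel

theorem check_nine : (withFirst 9).all (fun g => !inj4 g || refuted g || inList g nineList) = true := by
  decide +kernel

theorem check_mixed : eightList.all (fun a => nineList.all fun b => pList.any (fun p =>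
    badMap (comp (comp b p) a) || badMap (comp (comp a p) b) ||
      pList.any fun q => badMap (comp (comp (comp (comp a p) b) q) a))) = true := by
  decide +kernel

theorem check_move : eightList.all (fun a => [2, 3, 4, 5, 6, 7].any fun k =>
    [9, 10, 12, 14].contains (app a k)) = true := by decide +kernel

theorem check_orbits : [2, 3, 4, 5, 6, 7, 8, 9, 10, 11, 12, 13, 14, 15].all (fun x =>
    pList.any fun p => app p x == (if [8, 11, 13, 15].contains x then 8 else
      if [9, 10, 12, 14].contains x then 9 else 2)) = true := by decide +kernel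

theorem app_lt (g : Map4) (hg : g.1 < 16 ∧ g.2.1 < 16 ∧ g.2.2.1 < 16 ∧ g.2.2.2 < 16) (k : ℕ) :
    app g k < 16 := by
  obtain ⟨h1, h2, h3, h4⟩ := hg
  unfold app
  refine Nat.xor_lt_two_pow (n := 4) (Nat.xor_lt_two_pow (n := 4) ?_ ?_) (Nat.xor_lt_two_pow (n := 4) ?_ ?_) <;>
    split_ifs <;> norm_num <;> assumption

/-- A system of maps with prescribed stabiliser of the first point. -/
structure MapSys (L : Set Map4) : Prop where
  base : ∀ p ∈ pList, p ∈ L
  mul : ∀ g ∈ L, ∀ h ∈ L, comp g h ∈ L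
  bound : ∀ g ∈ L, g.1 < 16 ∧ g.2.1 < 16 ∧ g.2.2.1 < 16 ∧ g.2.2.2 < 16
  inj : ∀ g ∈ L, inj4 g = true
  stab : ∀ g ∈ L, g.1 = 1 → g ∈ pList

namespace MapSys

variable {L : Set Map4} (hL : MapSys L)
include hL

theorem not_bad {g : Map4} (hg : g ∈ L) : badMap g = false := by
  by_contra h
  rw [Bool.not_eq_false, badMap, Bool.and_eq_true, beq_iff_eq, Bool.not_eq_true'] at h
  have := hL.stab g hg h.1
  rw [← Bool.not_eq_true] at h
  exact h.2 (List.any_eq_true.2 ⟨g, this, beq_self_eq_true g⟩)

theorem mem_comp_p {g p : Map4} (hg : g ∈ L) (hp : p ∈ pList) : comp g p ∈ L :=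
  hL.mul g hg p (hL.base p hp)

theorem not_refuted {g : Map4} (hg : g ∈ L) : refuted g = false := by
  by_contra h
  simp only [refuted, Bool.not_eq_false, Bool.or_eq_true, List.any_map, List.any_eq_true,
    Function.comp_apply] at h
  rcases h with (⟨a, ha, e⟩ | ⟨a, ha, b, hb, e⟩) | ⟨a, ha, b, hb, c, hc, e⟩
  · rw [hL.not_bad (hL.mul _ (hL.mem_comp_p hg ha) g hg)] at e
    exact Bool.false_ne_true e
  · rw [hL.not_bad (hL.mul _ (hL.mul _ (hL.mem_comp_p hg ha) _ (hL.mem_comp_p hg hb)) g hg)] at e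
    exact Bool.false_ne_true e
  · rw [hL.not_bad (hL.mul _ (hL.mul _ (hL.mul _ (hL.mem_comp_p hg ha) _ (hL.mem_comp_p hg hb)) _
      (hL.mem_comp_p hg hc)) g hg)] at e
    exact Bool.false_ne_true e

theorem mem_withFirst {g : Map4} (hg : g ∈ L) : g ∈ withFirst g.1 := by
  obtain ⟨-, h2, h3, h4⟩ := hL.bound g hg
  simp only [withFirst, List.mem_flatMap, List.mem_map, List.mem_range]
  exact ⟨g.2.1, h2, g.2.2.1, h3, g.2.2.2, h4, rfl⟩

theorem first_two {g : Map4} (hg : g ∈ L) : g.1 ≠ 2 := fun h => by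
  have := List.all_eq_true.1 check_two g (h ▸ hL.mem_withFirst hg)
  rw [hL.inj g hg, hL.not_refuted hg] at this
  exact Bool.false_ne_true this

theorem first_eight {g : Map4} (hg : g ∈ L) (h : g.1 = 8) : g ∈ eightList := by
  have := List.all_eq_true.1 check_eight g (h ▸ hL.mem_withFirst hg)
  rw [hL.inj g hg, hL.not_refuted hg] at this
  simpa [inList] using this

theorem first_nine {g : Map4} (hg : g ∈ L) (h : g.1 = 9) : g ∈ nineList := by
  have := List.all_eq_true.1 check_nine g (h ▸ hL.mem_withFirst hg)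
  rw [hL.inj g hg, hL.not_refuted hg] at this
  simpa [inList] using this

theorem move {g : Map4} (hg : g ∈ L) (h : g.1 ≠ 1) (h0 : g.1 ≠ 0) : ∃ g' ∈ L,
    g'.1 = (if [8, 11, 13, 15].contains g.1 then 8 else if [9, 10, 12, 14].contains g.1 then 9 else 2) := by
  have hb := (hL.bound g hg).1
  have hx : g.1 ∈ [2, 3, 4, 5, 6, 7, 8, 9, 10, 11, 12, 13, 14, 15] := by
    interval_cases hg1 : g.1 <;> simp at h h0 ⊢
  obtain ⟨p, hp, e⟩ := List.any_eq_true.1 (List.all_eq_true.1 check_orbits g.1 hx)
  exact ⟨comp p g, hL.mul p (hL.base p hp) g hg, beq_iff_eq.1 e⟩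

theorem not_mixed {a b : Map4} (ha : a ∈ L) (hb : b ∈ L) (h8 : a.1 = 8) (h9 : b.1 = 9) : False := by
  obtain ⟨p, hp, e⟩ := List.any_eq_true.1
    (List.all_eq_true.1 (List.all_eq_true.1 check_mixed a (hL.first_eight ha h8)) b (hL.first_nine hb h9))
  simp only [Bool.or_eq_true, List.any_eq_true] at e
  rcases e with (e | e) | ⟨q, hq, e⟩
  · rw [hL.not_bad (hL.mul _ (hL.mem_comp_p hb hp) a ha)] at e
    exact Bool.false_ne_true e
  · rw [hL.not_bad (hL.mul _ (hL.mem_comp_p ha hp) b hb)] at e
    exact Bool.false_ne_true e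
  · rw [hL.not_bad (hL.mul _ (hL.mem_comp_p (hL.mul _ (hL.mem_comp_p ha hp) b hb) hq) a ha)] at e
    exact Bool.false_ne_true e

end MapSys

end CfsgLib.PSpFourInvol
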