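import Cfsg.Agent.PSpFourInvol.Facts
import Cfsg.Agent.PSpFourInvol.Orbit

/-!
# The automiser of `E` inside the coded centraliser
-/

set_option autoImplicit false

namespace CfsgLib.PSpFourInvol

/-- The map on indices as a `Map4`. -/
def pmap4 (g : W) : Map4 := (idx (cj g (vec 1)), idx (cj g (vec 2)), idx (cj g (vec 4)), idx (cj g (vec 8)))

theorem pmap_mem : allC.all (fun g => !nE g || inList (pmap4 g) pList) = true := by decide +kernel

theorem pmap_surj : pList.all (fun p => allC.any fun g => nE g && pmap4 g == p) = true := by decide +kernel

theorem reps : allW.all (fun a => allC.any fun b => eqz a b) = true := by decide +kernel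

theorem reps_distinct : allC.Pairwise (fun a b => eqz a b = false) := by decide +kernel

theorem z_central : allW.all (fun a => wm z a == wm a z) = true := by decide +kernel

theorem basis_xor : (List.range 16).all (fun k => app (1, 2, 4, 8) k == k) = true := by decide +kernel

theorem pmap_range : allC.all (fun g => !nE g ||
    (pmap4 g).1 < 16 && (pmap4 g).2.1 < 16 && (pmap4 g).2.2.1 < 16 && (pmap4 g).2.2.2 < 16) = true := by
  decide +kernel

theorem t_basic : (inT tW && nE tW && isInv tW && inT 1 && !eqz (⟨0, 0, true⟩ : W) 1) = true := by
  decide +kernel

theorem comm_t : allW.all (fun a => comm a tW) = true := by decide +kernel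

theorem t_central : allW.all (fun a => wm tW a == wm a tW || wm tW a == wm (wm a tW) z) = true := by
  decide +kernel

theorem flip_vec : (List.range 16).all (fun k =>
    eqz (vec (if k.testBit 3 then k ^^^ 1 else k))
      (if (vec k).b then wm (vec k) tW else vec k)) = true := by decide +kernel

end CfsgLib.PSpFourInvol
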