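import Cfsg.Agent.PSpFourInvol.Cent
import Cfsg.Agent.Invol.BrauerFowler

/-!
# The order of the group
-/

set_option autoImplicit false
set_option linter.style.haveILetI false
set_option linter.unusedSectionVars false

namespace CfsgLib.PSpFourInvol

open Subgroup

/-- The pairs counted at `t`. -/
def pairList : List (W × W) :=
  tList.flatMap fun a => ((allC.filter isUs).filter fun b => hitsT (wm a b)).map fun b => (a, b)

theorem pairList_length : pairList.length = 108 := by decide +kernel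

theorem tList_distinct : tList.Pairwise (fun a b => eqz a b = false ∧ eqz b a = false) := by decide +kernel

theorem swap_sym : [8, 11, 13, 15].all (fun p => [8, 11, 13, 15].all fun q => p == q ||
    (allC.filter fun g => nE g && isInv g && eqz (cj g (vec p)) (vec q)).length == 4) = true := by
  decide +kernel

namespace Setup

variable {G : Type*} [Group G] [Finite G]

theorem comm_of_mem_zpowers {p q j : G} (hp : orderOf p = 2) (hq : orderOf q = 2) (hj : orderOf j = 2)
    (hmem : j ∈ zpowers (p * q)) : p * j = j * p ∧ q * j = j * q := by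
  have hp2 := Invol.mul_self_eq_one hp
  have hq2 := Invol.mul_self_eq_one hq
  obtain ⟨k, rfl⟩ := mem_zpowers_iff.1 hmem
  have h1 : p * (p * q) * p⁻¹ = (p * q)⁻¹ := by
    rw [mul_inv_rev, inv_eq_of_mul_eq_one_right hp2, inv_eq_of_mul_eq_one_right hq2,
      ← mul_assoc, hp2, one_mul]
  have h2 : q * (p * q) * q⁻¹ = (p * q)⁻¹ := by
    rw [mul_inv_rev, inv_eq_of_mul_eq_one_right hp2, inv_eq_of_mul_eq_one_right hq2,
      mul_assoc, mul_assoc, hq2, mul_one]
  have hjj : ((p * q) ^ k)⁻¹ = (p * q) ^ k := inv_eq_of_mul_eq_one_right (Invol.mul_self_eq_one hj)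
  constructor
  · exact mul_inv_eq_iff_eq_mul.1 (by rw [← conj_zpow, h1, inv_zpow, hjj])
  · exact mul_inv_eq_iff_eq_mul.1 (by rw [← conj_zpow, h2, inv_zpow, hjj])

theorem eq_of_order_four {g j : G} (hj : orderOf j = 2) (hg : g ^ 2 * g ^ 2 = 1) (h : j ∈ zpowers g)
    (hg2 : orderOf (g ^ 2) = 2) : j = g ^ 2 := by
  obtain ⟨n, rfl⟩ := mem_powers_iff_mem_zpowers.2 h
  simp only at hj h ⊢
  have h4 : g ^ 4 = 1 := by rw [show 4 = 2 + 2 from rfl, pow_add]; exact hg
  have hjj := Invol.mul_self_eq_one hj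
  rw [← pow_mod_orderOf] at hjj ⊢
  have hord : orderOf g ∣ 4 := orderOf_dvd_of_pow_eq_one h4
  have hlt := Nat.mod_lt n (orderOf_pos g)
  have hle := Nat.le_of_dvd (by norm_num) hord
  have hne : g ^ (n % orderOf g) ≠ 1 := by rw [pow_mod_orderOf]; exact Invol.ne_one hj
  set r := n % orderOf g
  have hr : r < 4 := by omega
  interval_cases r
  · exact absurd (pow_zero g) hne
  · rw [pow_one] at hjj
    rw [sq, hjj, orderOf_one] at hg2
    omega
  · rfl
  · rw [← pow_add] at hjj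
    have : g ^ 2 = 1 := by
      rw [show g ^ 2 = g ^ (4 + 2) by rw [pow_add, h4, one_mul]]
      exact hjj
    rw [this, orderOf_one] at hg2
    omega

variable {D : Setup G} (hD : D.Good)
include hD

theorem all_invol (x : G) (hx : orderOf x = 2) : IsConj D.t x ∨ IsConj (D.v 9) x := by
  haveI : Fact (Nat.Prime 2) := ⟨Nat.prime_two⟩
  have hp : IsPGroup 2 (zpowers x : Subgroup G) :=
    IsPGroup.of_card (n := 1) (by rw [Nat.card_zpowers, hx, pow_one])
  obtain ⟨P, hP⟩ := hp.exists_le_sylow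
  obtain ⟨S, hS⟩ := D.exists_sylow
  obtain ⟨k, hk⟩ := MulAction.exists_smul_eq G P S
  have hkx : k * x * k⁻¹ ∈ D.T := by
    rw [← hS, ← hk]
    exact ⟨x, hP (mem_zpowers x), rfl⟩
  obtain ⟨a, -, ha⟩ := D.mem_T.1 hkx
  have hca : IsConj (D.ι a) x := (isConj_iff.2 ⟨k, ha.symm⟩).symm
  have ho : orderOf (D.ι a) = 2 := by rw [ha, Invol.orderOf_conj_eq]; exact hx
  cases h : isTs a with
  | true => exact Or.inl (((isConj_iff_isTs hD ho).1 h).trans hca)
  | false => exact Or.inr (((isConj_iff_isTs hD ho).2 h).trans hca)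

theorem ord_of_conj_nine {x : G} (h : IsConj (D.v 9) x) : orderOf x = 2 := by
  obtain ⟨g, rfl⟩ := isConj_iff.1 h
  rw [Invol.orderOf_conj_eq]
  exact v_ord hD (by norm_num) (by norm_num)

theorem hitsT_iff {a b : W} (ha : a ∈ tList) (hb : b ∈ allC.filter isUs) :
    hitsT (wm a b) = true ↔ D.t ∈ zpowers (D.ι a * D.ι b) := by
  have hit : ∀ n, D.ι (Nat.iterate (wm (wm a b)) n (wm a b)) = (D.ι a * D.ι b) ^ (n + 1) := by
    intro n
    induction n with
    | zero => rw [pow_one, ← map_mul]; rfl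
    | succ n ih =>
      rw [Function.iterate_succ_apply', pow_succ', ← ih, ← map_mul, ← map_mul]
      rfl
  rw [hitsT, List.any_eq_true]
  constructor
  · rintro ⟨n, -, h⟩
    exact mem_zpowers_iff.2 ⟨(n + 1 : ℕ), by rw [zpow_natCast, ← hit]; exact D.ι_eq_iff.2 h⟩
  · intro h
    obtain ⟨m, hm, e⟩ := List.any_eq_true.1
      (List.all_eq_true.1 (List.all_eq_true.1 hitsT_complete a ha) b hb)
    have h1 : (D.ι a * D.ι b) ^ (m + 1) = 1 := by rw [← hit, D.ι_eq_iff.2 e, map_one]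
    obtain ⟨k, hk⟩ := mem_powers_iff_mem_zpowers.2 h
    simp only at hk
    have hk' : (D.ι a * D.ι b) ^ (k % (m + 1)) = D.t := by
      rw [← hk]
      conv_rhs => rw [← Nat.mod_add_div k (m + 1)]
      rw [pow_add, pow_mul, h1, one_pow, mul_one]
    have hne : k % (m + 1) ≠ 0 := fun e0 => by
      rw [e0, pow_zero] at hk'
      exact Invol.ne_one D.ord_t hk'.symm
    have := Nat.mod_lt k (show m + 1 > 0 by omega)
    have hm13 := List.mem_range.1 hm
    refine ⟨k % (m + 1) - 1, List.mem_range.2 (by omega), D.ι_eq_iff.1 ?_⟩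
    rw [hit, Nat.sub_add_cancel (by omega)]
    exact hk'

theorem pairs_t : Nat.card {q : G × G // IsConj D.t q.1 ∧ IsConj (D.v 9) q.2 ∧ D.t ∈ zpowers (q.1 * q.2)} =
    108 := by
  classical
  have hnd : pairList.Nodup := by
    refine List.nodup_flatMap.2 ⟨fun a _ => ?_, ?_⟩
    · refine List.Nodup.map (fun b c h => (Prod.ext_iff.1 h).2) (List.Nodup.filter _ (List.Nodup.filter _ ?_))
      exact reps_distinct.imp (fun {a b} h e => by subst e; simp [eqz] at h)
    · refine tList_distinct.imp fun {a b} h x hxa hxb => ?_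
      obtain ⟨c, -, rfl⟩ := List.mem_map.1 hxa
      obtain ⟨c', -, e⟩ := List.mem_map.1 hxb
      have e1 : b = a := (Prod.ext_iff.1 e).1
      subst e1
      simp [eqz] at h
  rw [← pairList_length, ← List.toFinset_card_of_nodup hnd, ← Nat.card_eq_finsetCard]
  symm
  have hmem : ∀ {p : W × W}, p ∈ pairList ↔ p.1 ∈ tList ∧ (p.2 ∈ allC.filter isUs ∧ hitsT (wm p.1 p.2) = true) := by
    intro p
    simp only [pairList, List.mem_flatMap, List.mem_map, List.mem_filter]
    constructor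
    · rintro ⟨a, ha, b, hb, rfl⟩; exact ⟨ha, hb⟩
    · rintro ⟨ha, hb⟩; exact ⟨p.1, ha, p.2, hb, rfl⟩
  have hUs : ∀ {b : W}, b ∈ allC.filter isUs → IsConj (D.v 9) (D.ι b) := by
    intro b hb
    have := (List.mem_filter.1 hb).2
    rw [isUs, Bool.and_eq_true, Bool.not_eq_true'] at this
    exact (isConj_iff_isTs hD (D.inv_iff.2 this.1)).2 this.2
  have hTs : ∀ {a : W}, a ∈ tList → IsConj D.t (D.ι a) := by
    intro a ha
    have hinv : isInv a = true := (Bool.and_eq_true _ _).mp (List.all_eq_true.1 t_list_closed a ha) |>.1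
    exact (isConj_iff_isTs hD (D.inv_iff.2 hinv)).1 (D.isTs_iff.2 ⟨a, ha, rfl⟩)
  refine Nat.card_eq_of_bijective
    (fun p : {p // p ∈ pairList.toFinset} => (⟨(D.ι p.1.1, D.ι p.1.2), hTs (hmem.1 (List.mem_toFinset.1 p.2)).1,
      hUs (hmem.1 (List.mem_toFinset.1 p.2)).2.1,
      (hitsT_iff hD (hmem.1 (List.mem_toFinset.1 p.2)).1 (hmem.1 (List.mem_toFinset.1 p.2)).2.1).1
        (hmem.1 (List.mem_toFinset.1 p.2)).2.2⟩ :
      {q : G × G // IsConj D.t q.1 ∧ IsConj (D.v 9) q.2 ∧ D.t ∈ zpowers (q.1 * q.2)})) ⟨?_, ?_⟩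
  · rintro ⟨⟨a, b⟩, hp⟩ ⟨⟨a', b'⟩, hp'⟩ h
    obtain ⟨ha, hb, -⟩ := hmem.1 (List.mem_toFinset.1 hp)
    obtain ⟨ha', hb', -⟩ := hmem.1 (List.mem_toFinset.1 hp')
    have h' := congrArg Subtype.val h
    simp only [Prod.mk.injEq] at h'
    refine Subtype.ext (Prod.ext ?_ (D.rep_inj (List.mem_filter.1 hb).1 (List.mem_filter.1 hb').1 h'.2))
    by_contra hne
    haveI : Std.Symm (fun a b : W => eqz a b = false ∧ eqz b a = false) := ⟨fun _ _ h => ⟨h.2, h.1⟩⟩
    have := (List.Pairwise.forall tList_distinct ha ha' hne).1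
    rw [D.ι_eq_iff.1 h'.1] at this
    exact Bool.false_ne_true this.symm
  · rintro ⟨⟨x, y⟩, hx, hy, hm⟩
    obtain ⟨c1, c2⟩ := comm_of_mem_zpowers (ord_of_conj hD hx) (ord_of_conj_nine hD hy) D.ord_t hm
    obtain ⟨a₀, rfl⟩ := (D.range x).1 c1
    obtain ⟨b₀, rfl⟩ := (D.range y).1 c2
    obtain ⟨a, ha, ea⟩ := D.isTs_iff.1 ((conj_ι_iff hD (ord_of_conj hD hx)).1 hx)
    obtain ⟨b, hb, eb⟩ := D.exists_rep b₀
    simp only at hm hy ⊢
    rw [eb] at hy hm
    rw [← ea] at hm
    have hob := ord_of_conj_nine hD hy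
    have hbU : b ∈ allC.filter isUs := by
      refine List.mem_filter.2 ⟨hb, ?_⟩
      rw [isUs, D.inv_iff.1 hob, Bool.true_and, Bool.not_eq_true']
      by_contra hc
      exact not_isConj hD (((conj_ι_iff hD hob).2 (by simpa using hc)).trans hy.symm)
    exact ⟨⟨(a, b), List.mem_toFinset.2 (hmem.2 ⟨ha, hbU, (hitsT_iff hD ha hbU).2 hm⟩)⟩,
      Subtype.ext (Prod.ext ea eb.symm)⟩

/-- Involutions centralising `u` and exchanging `t` with `t u`. -/
def Swaps (D : Setup G) (y : G) : Prop :=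
  orderOf y = 2 ∧ y * D.t * y⁻¹ = D.v 8 ∧ y * D.v 9 = D.v 9 * y

theorem swaps_normalizer {y : G} (h : Swaps D y) : y ∈ normalizer (D.E : Set G) :=
  normalizer_of_moves hD h.2.2 (Or.inr h.2.1)

theorem swaps_v_eight {y : G} (h : Swaps D y) : y * D.v 8 * y⁻¹ = D.t := by
  rw [← h.2.1, show y * (y * D.t * y⁻¹) * y⁻¹ = (y * y) * D.t * (y * y)⁻¹ by group,
    Invol.mul_self_eq_one h.1]
  group

theorem swaps_conj_nine {y : G} (h : Swaps D y) : IsConj (D.v 9) y := by
  rcases all_invol hD y h.1 with h' | h'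
  · exfalso
    have hy := mem_E_of_mem_normalizer hD (swaps_normalizer hD h) h'
    have := h.2.1
    rw [D.E_comm hy D.t_mem_E, mul_inv_cancel_right] at this
    have h8 := D.v_inj (i := 1) (j := 8) (by norm_num) (by norm_num) (D.v_one.trans this)
    omega
  · exact h'

theorem perm_three {y : G} (h : Swaps D y) {k : ℕ} (hk : k ∈ [11, 13, 15]) :
    ∃ l ∈ [11, 13, 15], y * D.v k * y⁻¹ = D.v l := by
  have hk16 : k < 16 := by fin_cases hk <;> norm_num
  obtain ⟨l, hl, el⟩ := (mem_normalizer_iff.1 (swaps_normalizer hD h) _).1 (D.v_mem hk16)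
  refine ⟨l, ?_, el.symm⟩
  have hl5 : l ∈ [1, 8, 11, 13, 15] := (conj_v_iff hD hl).1
    (((conj_v_iff hD hk16).2 (by fin_cases hk <;> simp)).trans (isConj_iff.2 ⟨y, el.symm⟩))
  have hne : ∀ {i}, i < 16 → i ≠ k → y * D.v i * y⁻¹ ≠ D.v l := fun {i} hi hik e =>
    hik (D.v_inj hi hk16 (mul_left_cancel (mul_right_cancel (e.trans el))))
  fin_cases hl5
  · exact absurd (swaps_v_eight hD h |>.trans D.v_one.symm)
      (hne (i := 8) (by norm_num) (by fin_cases hk <;> norm_num))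
  · exact absurd (D.v_one ▸ h.2.1) (hne (i := 1) (by norm_num) (by fin_cases hk <;> norm_num))
  all_goals simp

theorem swaps_fix_unique {y : G} (h : Swaps D y) : ∃! k, k ∈ [11, 13, 15] ∧ y * D.v k * y⁻¹ = D.v k := by
  have hinv : ∀ {k l}, y * D.v k * y⁻¹ = D.v l → y * D.v l * y⁻¹ = D.v k := fun {k l} e => by
    rw [← e, show y * (y * D.v k * y⁻¹) * y⁻¹ = (y * y) * D.v k * (y * y)⁻¹ by group,
      Invol.mul_self_eq_one h.1]
    group
  have hex : ∃ k, k ∈ [11, 13, 15] ∧ y * D.v k * y⁻¹ = D.v k := by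
    obtain ⟨a, ha, ea⟩ := perm_three hD h (k := 11) (by simp)
    by_cases h1 : a = 11
    · exact ⟨11, by simp, h1 ▸ ea⟩
    · obtain ⟨b, hb, eb⟩ := perm_three hD h (k := (if a = 13 then 15 else 13)) (by split_ifs <;> simp)
      refine ⟨b, hb, ?_⟩
      have hb' : b ≠ 11 := by
        rintro rfl
        have := hinv eb
        rw [ea] at this
        have := D.v_inj (by fin_cases ha <;> norm_num) (by split_ifs <;> norm_num) this
        split_ifs at this <;> omega
      have hba : b ≠ a := by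
        rintro rfl
        have := mul_left_cancel (mul_right_cancel (ea.trans eb.symm))
        have := D.v_inj (i := 11) (by norm_num) (by split_ifs <;> norm_num) this
        split_ifs at this <;> omega
      have : b = (if a = 13 then 15 else 13) := by
        fin_cases ha <;> fin_cases hb <;> simp at h1 hb' hba ⊢
      rwa [← this] at eb
  obtain ⟨k, hk, ek⟩ := hex
  refine ⟨k, ⟨hk, ek⟩, fun l ⟨hl, el⟩ => ?_⟩
  by_contra hne
  have hk16 : k < 16 := by fin_cases hk <;> norm_num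
  have hl16 : l < 16 := by fin_cases hl <;> norm_num
  obtain ⟨n, hn, en⟩ := exists_to hD (k := k) (by fin_cases hk <;> simp)
  have hyN := swaps_normalizer hD h
  have hy' : n⁻¹ * y * n ∈ normalizer (D.E : Set G) := mul_mem (mul_mem (inv_mem hn) hyN) hn
  have hc : n⁻¹ * y * n * D.t = D.t * (n⁻¹ * y * n) := mul_inv_eq_iff_eq_mul.1 (by
    rw [show n⁻¹ * y * n * D.t * (n⁻¹ * y * n)⁻¹ = n⁻¹ * (y * (n * D.t * n⁻¹) * y⁻¹) * n by group, en, ek,
      ← en]
    group)
  obtain ⟨a, ha⟩ := (D.range _).1 hc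
  obtain ⟨b, hb, hab⟩ := D.exists_rep a
  rw [hab] at ha
  have hnb : nE b = true := D.nE_of_mem (ha ▸ hy')
  have hsq : eqz (wm b b) 1 = true := D.ι_eq_iff.1 (by
    rw [show wm b b = b * b from rfl, map_mul, map_one, ha,
      show n⁻¹ * y * n * (n⁻¹ * y * n) = n⁻¹ * (y * y) * n by group, Invol.mul_self_eq_one h.1]
    group)
  obtain ⟨p, hp, ep⟩ := (mem_normalizer_iff.1 (inv_mem hn) _).1 (D.v_mem hl16)
  rw [inv_inv] at ep
  have hp5 : p ∈ [1, 8, 11, 13, 15] := (conj_v_iff hD hp).1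
    (((conj_v_iff hD hl16).2 (by fin_cases hl <;> simp)).trans (isConj_iff.2 ⟨n⁻¹, by rw [ep, inv_inv]⟩))
  have hp1 : p ≠ 1 := by
    rintro rfl
    refine hne (D.v_inj hl16 hk16 ?_)
    rw [← en, ← D.v_one, ep]
    group
  have hfp : eqz (cj b (vec p)) (vec p) = true := D.ι_eq_iff.1 (by
    show D.ι (cj b (vec p)) = D.v p
    rw [D.cj_eq, ha, show D.ι (vec p) = n⁻¹ * D.v l * n from ep, ep,
      show n⁻¹ * y * n * (n⁻¹ * D.v l * n) * (n⁻¹ * y * n)⁻¹ = n⁻¹ * (y * D.v l * y⁻¹) * n by group, el])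
  have hfix := List.all_eq_true.1 fix_two b hb
  have hany : ([8, 11, 13, 15].any fun k => eqz (cj b (vec k)) (vec k)) = true := by
    refine List.any_eq_true.2 ⟨p, ?_, hfp⟩
    fin_cases hp5 <;> simp at hp1 ⊢
  rw [hnb, hsq, hany] at hfix
  have hall : ∀ i ∈ [1, 2, 4, 8], D.ι b * D.v i * (D.ι b)⁻¹ = D.v i := fun i hi => by
    rw [v, ← D.cj_eq]
    have hfix' : ([1, 2, 4, 8].all fun k => eqz (cj b (vec k)) (vec k)) = true := by simpa using hfix
    exact D.ι_eq_iff.2 (List.all_eq_true.1 hfix' i hi)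
  have hcE : ∀ i < 16, D.ι b * D.v i * (D.ι b)⁻¹ = D.v i := fun i hi => by
    rw [D.v_conj (m := (1, 2, 4, 8)) ⟨by norm_num, by norm_num, by norm_num, by norm_num⟩ (hall 1 (by simp))
      (hall 2 (by simp)) (hall 4 (by simp)) (hall 8 (by simp)) hi]
    exact congrArg D.v (eq_of_beq (List.all_eq_true.1 basis_xor i (List.mem_range.2 hi)))
  obtain ⟨j, hj, ej⟩ := (mem_normalizer_iff.1 (inv_mem hn) _).1 D.t_mem_E
  rw [inv_inv] at ej
  have h8 : y * D.t * y⁻¹ = D.t := by
    have h1 := hcE j hj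
    rw [ha, ej] at h1
    calc y * D.t * y⁻¹ = n * (n⁻¹ * y * n * (n⁻¹ * D.t * n) * (n⁻¹ * y * n)⁻¹) * n⁻¹ := by group
      _ = D.t := by rw [h1]; group
  have := D.v_inj (i := 8) (j := 1) (by norm_num) (by norm_num) (h.2.1.symm.trans (h8.trans D.v_one.symm))
  omega

theorem card_swaps_fix {k : ℕ} (hk : k ∈ [11, 13, 15]) :
    Nat.card {y : G // Swaps D y ∧ y * D.v k * y⁻¹ = D.v k} = 4 := by
  have hk16 : k < 16 := by fin_cases hk <;> norm_num
  obtain ⟨n, hn, en⟩ := exists_to hD (k := k) (by fin_cases hk <;> simp)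
  have back : ∀ {i}, i ∈ [1, 8] → ∃ p ∈ [8, 11, 13, 15], D.v p = n⁻¹ * D.v i * n := by
    intro i hi
    have hi16 : i < 16 := by fin_cases hi <;> norm_num
    obtain ⟨p, hp, ep⟩ := (mem_normalizer_iff.1 (inv_mem hn) _).1 (D.v_mem hi16)
    rw [inv_inv] at ep
    refine ⟨p, ?_, ep⟩
    have hp5 : p ∈ [1, 8, 11, 13, 15] := (conj_v_iff hD hp).1
      (((conj_v_iff hD hi16).2 (by fin_cases hi <;> simp)).trans (isConj_iff.2 ⟨n⁻¹, by rw [ep, inv_inv]⟩))
    have hp1 : p ≠ 1 := by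
      rintro rfl
      have := D.v_inj (i := i) (j := k) hi16 hk16 (by rw [← en, ← D.v_one, ep]; group)
      subst this
      fin_cases hk <;> simp at hi
    fin_cases hp5 <;> simp at hp1 ⊢
  obtain ⟨p, hp, ep⟩ := back (i := 1) (by simp)
  obtain ⟨q, hq, eq'⟩ := back (i := 8) (by simp)
  have hpq : p ≠ q := by
    rintro rfl
    have := D.v_inj (i := 1) (j := 8) (by norm_num) (by norm_num)
      (mul_left_cancel (mul_right_cancel (ep.symm.trans eq')))
    omega
  have hp16 : p < 16 := by fin_cases hp <;> norm_num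
  have hq16 : q < 16 := by fin_cases hq <;> norm_num
  have h4 := List.all_eq_true.1 (List.all_eq_true.1 swap_sym p hp) q hq
  simp only [Bool.or_eq_true, beq_iff_eq, hpq, false_or] at h4
  conv_rhs => rw [← h4, ← D.ncard_image]
  refine Nat.card_congr ((MulAut.conj n⁻¹).toEquiv.subtypeEquiv fun y => ?_)
  show _ ↔ ∃ a ∈ _, D.ι a = n⁻¹ * y * n⁻¹⁻¹
  rw [inv_inv]
  constructor
  · rintro ⟨h, hfix⟩
    have hc : n⁻¹ * y * n * D.t = D.t * (n⁻¹ * y * n) := mul_inv_eq_iff_eq_mul.1 (by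
      rw [show n⁻¹ * y * n * D.t * (n⁻¹ * y * n)⁻¹ = n⁻¹ * (y * (n * D.t * n⁻¹) * y⁻¹) * n by group,
        en, hfix, ← en]
      group)
    obtain ⟨a, ha⟩ := (D.range _).1 hc
    obtain ⟨b, hb, hab⟩ := D.exists_rep a
    rw [hab] at ha
    refine ⟨b, List.mem_filter.2 ⟨hb, ?_⟩, ha⟩
    simp only [Bool.and_eq_true]
    refine ⟨⟨D.nE_of_mem (ha ▸ mul_mem (mul_mem (inv_mem hn) (swaps_normalizer hD h)) hn), D.inv_iff.1 ?_⟩,
      D.ι_eq_iff.1 ?_⟩
    · rw [ha]
      conv_lhs => rw [show n⁻¹ * y * n = n⁻¹ * y * n⁻¹⁻¹ by rw [inv_inv]]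
      rw [Invol.orderOf_conj_eq]
      exact h.1
    · show D.ι (cj b (vec p)) = D.v q
      rw [D.cj_eq, ha, show D.ι (vec p) = n⁻¹ * D.v 1 * n from ep, eq', D.v_one, ← h.2.1]
      group
  · rintro ⟨b, hb, hb'⟩
    obtain ⟨hb, hb3⟩ := List.mem_filter.1 hb
    simp only [Bool.and_eq_true] at hb3
    obtain ⟨⟨hnb, hib⟩, hmap⟩ := hb3
    have hy : y = n * D.ι b * n⁻¹ := by rw [hb']; group
    have hyo : orderOf y = 2 := by rw [hy, Invol.orderOf_conj_eq]; exact D.inv_iff.2 hib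
    have hmap' : D.ι b * D.v p * (D.ι b)⁻¹ = D.v q := by
      rw [v, ← D.cj_eq]; exact D.ι_eq_iff.2 hmap
    have e1 : y * D.t * y⁻¹ = D.v 8 := by
      rw [hy, ← D.v_one, show D.v 1 = n * D.v p * n⁻¹ by rw [ep]; group,
        show D.v 8 = n * D.v q * n⁻¹ by rw [eq']; group, ← hmap']
      group
    have e8 : y * D.v 8 * y⁻¹ = D.t := by
      rw [← e1, show y * (y * D.t * y⁻¹) * y⁻¹ = (y * y) * D.t * (y * y)⁻¹ by group,
        Invol.mul_self_eq_one hyo]
      group
    have h9 : D.v 1 * D.v 8 = D.v 9 := D.v_mul (by norm_num) (by norm_num)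
    refine ⟨⟨hyo, e1, mul_inv_eq_iff_eq_mul.1 ?_⟩, ?_⟩
    · rw [← h9, D.v_one, show y * (D.t * D.v 8) * y⁻¹ = (y * D.t * y⁻¹) * (y * D.v 8 * y⁻¹) by group,
        e1, e8, D.E_comm (D.v_mem (by norm_num)) D.t_mem_E]
    · rw [← en, hy, show n * D.ι b * n⁻¹ * (n * D.t * n⁻¹) * (n * D.ι b * n⁻¹)⁻¹ =
        n * (D.ι b * D.t * (D.ι b)⁻¹) * n⁻¹ by group, D.ι_comm_t b, mul_inv_cancel_right]

theorem card_swaps : Nat.card {y : G // Swaps D y} = 12 := by
  classical
  haveI := Fintype.ofFinite G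
  have h : ∀ y : G, Swaps D y ↔ y ∈ ({11, 13, 15} : Finset ℕ).biUnion fun k =>
      Finset.univ.filter fun y => Swaps D y ∧ y * D.v k * y⁻¹ = D.v k := by
    intro y
    simp only [Finset.mem_biUnion, Finset.mem_filter, Finset.mem_univ, true_and]
    constructor
    · intro hy
      obtain ⟨k, ⟨hk, ek⟩, -⟩ := swaps_fix_unique hD hy
      exact ⟨k, by simpa using hk, hy, ek⟩
    · rintro ⟨k, -, hy, -⟩
      exact hy
  rw [Nat.card_congr (Equiv.subtypeEquivRight h), Nat.card_eq_finsetCard, Finset.card_biUnion]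
  · have hc : ∀ k ∈ ({11, 13, 15} : Finset ℕ),
        (Finset.univ.filter fun y => Swaps D y ∧ y * D.v k * y⁻¹ = D.v k).card = 4 := fun k hk => by
      rw [← card_swaps_fix hD (k := k) (by simpa using hk), Nat.card_eq_fintype_card, Fintype.card_subtype]
    rw [Finset.sum_congr rfl hc]
    rfl
  · intro a ha b hb hab
    rw [Function.onFun, Finset.disjoint_left]
    intro y hya hyb
    simp only [Finset.mem_filter, Finset.mem_univ, true_and] at hya hyb
    exact hab ((swaps_fix_unique hD hya.1).unique ⟨by simpa using ha, hya.2⟩ ⟨by simpa using hb, hyb.2⟩)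

theorem pair_u_iff {x y : G} :
    (IsConj D.t x ∧ IsConj (D.v 9) y ∧ D.v 9 ∈ zpowers (x * y)) ↔
      ((x = D.t ∨ x = D.v 8) ∧ Swaps D y) ∨ ∃ k ∈ [11, 13, 15], x = D.v k ∧ y = D.v (k ^^^ 9) := by
  have h9ord : orderOf (D.v 9) = 2 := v_ord hD (by norm_num) (by norm_num)
  constructor
  · rintro ⟨hx, hy, hm⟩
    have hxo := ord_of_conj hD hx
    have hyo := ord_of_conj_nine hD hy
    obtain ⟨cx, cy⟩ := comm_of_mem_zpowers hxo hyo h9ord hm
    have hxE := mem_E_of_mem_normalizer hD (cent_nine_le hD (mem_centralizer_singleton_iff.2 cx)) hx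
    have hyN := cent_nine_le hD (mem_centralizer_singleton_iff.2 cy)
    obtain ⟨k, hk, rfl⟩ := hxE
    have hk5 := (conj_v_iff hD hk).1 hx
    have hyy := Invol.mul_self_eq_one hyo
    have hyi : y⁻¹ = y := inv_eq_of_mul_eq_one_right hyy
    have hxk : D.v k * D.v k = 1 := D.E_sq (D.v_mem hk)
    have inv_case : y * D.v k * y⁻¹ = D.v k → y = D.v (k ^^^ 9) := by
      intro hc
      have hc' := mul_inv_eq_iff_eq_mul.1 hc
      have h2 : (D.v k * y) * (D.v k * y) = 1 := by
        rw [show D.v k * y * (D.v k * y) = D.v k * (y * D.v k) * y by group, hc', ← mul_assoc, hxk, one_mul, hyy]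
      obtain ⟨i, hi⟩ := mem_zpowers_iff.1 hm
      rcases Int.even_or_odd i with ⟨j, rfl⟩ | ⟨j, rfl⟩
      · rw [← two_mul, zpow_mul, zpow_two, h2, one_zpow] at hi
        exact absurd hi.symm (Invol.ne_one h9ord)
      · rw [zpow_add, zpow_mul, zpow_two, h2, one_zpow, one_mul, zpow_one] at hi
        rw [← D.v_mul hk (by norm_num), ← hi, ← mul_assoc, hxk, one_mul]
    have hlk : ∃ l, l < 16 ∧ D.v l = y * D.v k * y⁻¹ := (mem_normalizer_iff.1 hyN _).1 (D.v_mem hk)
    have h18 : k = 1 ∨ k = 8 → (D.v k = D.t ∨ D.v k = D.v 8) ∧ Swaps D y := by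
      intro hk18
      have hm' := moves_of_mem hD cy ((mem_normalizer_iff.1 hyN _).1 D.t_mem_E)
      have h8 : y * D.v 8 * y⁻¹ = y * D.t * y⁻¹ * D.v 9 := by
        rw [← v_eight_eq hD, D.v_one, show y * (D.t * D.v 9) * y⁻¹ = y * D.t * y⁻¹ * (y * D.v 9 * y⁻¹) by group,
          cy, mul_inv_cancel_right]
      rcases hm' with e | e
      · exfalso
        have hfix : y * D.v k * y⁻¹ = D.v k := by
          rcases hk18 with rfl | rfl
          · rw [D.v_one]; exact e
          · rw [h8, e, ← D.v_one, v_eight_eq hD]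
        have := inv_case hfix
        rw [this] at hy
        refine not_isConj hD (((conj_v_iff hD (xor_lt hk (by norm_num))).2 ?_).trans hy.symm)
        rcases hk18 with rfl | rfl <;> decide
      · refine ⟨?_, hyo, e, cy⟩
        rcases hk18 with rfl | rfl
        · exact Or.inl D.v_one
        · exact Or.inr rfl
    rcases (show (k = 1 ∨ k = 8) ∨ k ∈ [11, 13, 15] by fin_cases hk5 <;> simp) with h | h
    · exact Or.inl (h18 h)
    · refine Or.inr ⟨k, h, rfl, inv_case ?_⟩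
      obtain ⟨l, hl, el⟩ := hlk
      by_contra hne
      have hl5 : l ∈ [1, 8, 11, 13, 15] := (conj_v_iff hD hl).1 (hx.trans (isConj_iff.2 ⟨y, el.symm⟩))
      have hlk' : k ≠ l := fun e => hne (by rw [← el, e])
      have hsq : (D.v k * y) ^ 2 = D.v (k ^^^ l) := by
        rw [sq, ← D.v_mul hk hl, el, hyi]
        group
      have hkl0 : k ^^^ l ≠ 0 := fun e => hlk' (Nat.eq_of_xor_eq_zero e)
      have h4 := eq_of_order_four h9ord (g := D.v k * y)
        (by rw [hsq]; exact D.E_sq (D.v_mem (xor_lt hk hl))) hm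
        (by rw [hsq]; exact v_ord hD (xor_lt hk hl) hkl0)
      rw [hsq] at h4
      have := D.v_inj (by norm_num) (xor_lt hk hl) h4
      fin_cases h <;> fin_cases hl5 <;> exact absurd this (by decide)
  · rintro (⟨hx, hs⟩ | ⟨k, hk, rfl, rfl⟩)
    · have hyy := Invol.mul_self_eq_one hs.1
      have hyi : y⁻¹ = y := inv_eq_of_mul_eq_one_right hyy
      have h9 : D.v 1 * D.v 8 = D.v 9 := D.v_mul (by norm_num) (by norm_num)
      refine ⟨?_, swaps_conj_nine hD hs, mem_zpowers_iff.2 ⟨2, ?_⟩⟩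
      · rcases hx with rfl | rfl
        · exact IsConj.refl _
        · exact (conj_v_iff hD (by norm_num)).2 (by simp)
      · rw [zpow_two, show x * y * (x * y) = x * (y * x * y) by group]
        conv_lhs => rw [show y * x * y = y * x * y⁻¹ by rw [hyi]]
        rcases hx with rfl | rfl
        · rw [hs.2.1, ← D.v_one, h9]
        · rw [swaps_v_eight hD hs, ← D.v_one, D.E_comm (D.v_mem (by norm_num)) (D.v_mem (by norm_num)), h9]
    · have hk16 : k < 16 := by fin_cases hk <;> norm_num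
      refine ⟨(conj_v_iff hD hk16).2 (by fin_cases hk <;> simp), ?_, ?_⟩
      · have hn : ¬ IsConj D.t (D.v (k ^^^ 9)) := by
          rw [conj_v_iff hD (xor_lt hk16 (by norm_num))]
          fin_cases hk <;> decide
        exact ((all_invol hD _ (v_ord hD (xor_lt hk16 (by norm_num)) (by fin_cases hk <;> decide))).resolve_left hn)
      · rw [D.v_mul hk16 (xor_lt hk16 (by norm_num)), ← Nat.xor_assoc, Nat.xor_self, Nat.zero_xor]
        exact mem_zpowers _

theorem pairs_u : Nat.card {q : G × G // IsConj D.t q.1 ∧ IsConj (D.v 9) q.2 ∧ D.v 9 ∈ zpowers (q.1 * q.2)} =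
    27 := by
  classical
  haveI := Fintype.ofFinite G
  let A : Finset (G × G) := ({D.t, D.v 8} : Finset G) ×ˢ (Finset.univ.filter (Swaps D))
  let B : Finset (G × G) := ({11, 13, 15} : Finset ℕ).image fun k => (D.v k, D.v (k ^^^ 9))
  have hA : A.card = 24 := by
    have h18 : D.t ≠ D.v 8 := fun e => by
      have := D.v_inj (i := 1) (j := 8) (by norm_num) (by norm_num) (D.v_one.trans e)
      omega
    rw [Finset.card_product, Finset.card_pair h18, ← Fintype.card_subtype, ← Nat.card_eq_fintype_card,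
      card_swaps hD]
  have hB : B.card = 3 := by
    rw [Finset.card_image_of_injOn]
    · rfl
    · intro a ha b hb e
      simp only [Finset.coe_insert, Finset.coe_singleton, Set.mem_insert_iff, Set.mem_singleton_iff] at ha hb
      exact D.v_inj (by omega) (by omega) (congrArg Prod.fst e)
  have hdisj : Disjoint A B := by
    rw [Finset.disjoint_left]
    rintro ⟨x, y⟩ hxA hxB
    simp only [A, B, Finset.mem_product, Finset.mem_insert, Finset.mem_singleton, Finset.mem_image,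
      Prod.mk.injEq] at hxA hxB
    obtain ⟨k, hk, e, -⟩ := hxB
    rcases hxA.1 with e' | e'
    · have := D.v_inj (i := k) (j := 1) (by omega) (by norm_num) (e.trans (e'.trans D.v_one.symm))
      omega
    · have := D.v_inj (i := k) (j := 8) (by omega) (by norm_num) (e.trans e')
      omega
  rw [Nat.card_congr (Equiv.subtypeEquivRight (q := fun q => q ∈ A ∪ B) fun q => ?_), Nat.card_eq_finsetCard,
    Finset.card_union_of_disjoint hdisj, hA, hB]
  obtain ⟨x, y⟩ := q
  simp only [Finset.mem_union, A, B, Finset.mem_product, Finset.mem_insert, Finset.mem_singleton,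
    Finset.mem_filter, Finset.mem_univ, true_and, Finset.mem_image, Prod.mk.injEq]
  rw [pair_u_iff hD]
  refine or_congr_right ⟨?_, ?_⟩
  · rintro ⟨k, hk, rfl, rfl⟩
    exact ⟨k, by simpa using hk, rfl, rfl⟩
  · rintro ⟨k, hk, rfl, rfl⟩
    exact ⟨k, by simpa using hk, rfl, rfl⟩

theorem card_G : Nat.card G = 25920 := by
  rw [BrauerFowler.order_formula D.ord_t (v_ord hD (k := 9) (by norm_num) (by norm_num)) (not_isConj hD)
    (all_invol hD), pairs_t hD, pairs_u hD, D.card_cent, card_cent_nine hD]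

theorem card_normalizer : Nat.card (normalizer (D.E : Set G)) = 960 := by
  classical
  have h192 : Nat.card {n : normalizer (D.E : Set G) // (n : G) * D.t * (n : G)⁻¹ = D.t} = 192 := by
    rw [← count_nE, ← D.ncard_image, Nat.card_congr ((Equiv.subtypeSubtypeEquivSubtypeExists _ _).trans
      (Equiv.refl _))]
    refine Nat.card_congr (Equiv.subtypeEquivRight fun g => ?_)
    constructor
    · rintro ⟨hg, h⟩
      obtain ⟨a, rfl⟩ := (D.range g).1 (mul_inv_eq_iff_eq_mul.1 h)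
      obtain ⟨b, hb, e⟩ := D.exists_rep a
      exact ⟨b, List.mem_filter.2 ⟨hb, D.nE_of_mem (e ▸ hg)⟩, e.symm⟩
    · rintro ⟨b, hb, rfl⟩
      obtain ⟨hb1, hb2⟩ := List.mem_filter.1 hb
      exact ⟨D.nE_mem hb1 hb2, by rw [D.ι_comm_t, mul_inv_cancel_right]⟩
  let five : Finset ℕ := {1, 8, 11, 13, 15}
  have hf : ∀ n : normalizer (D.E : Set G), ∃ k : five, (n : G) * D.t * (n : G)⁻¹ = D.v k := fun n => by
    obtain ⟨k, hk, e⟩ := orbit_mem hD n.2
    exact ⟨⟨k, by simpa [five] using hk⟩, e⟩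
  choose f hf using hf
  rw [Nat.card_congr (Equiv.sigmaFiberEquiv f).symm, Nat.card_sigma]
  have hfib : ∀ k : five, Nat.card {n // f n = k} = 192 := by
    intro k
    obtain ⟨n₀, hn₀, e₀⟩ := exists_to hD (k := k.1) (by have h := k.2; simp only [five, Finset.mem_insert, Finset.mem_singleton] at h; simpa using h)
    rw [← h192]
    refine Nat.card_congr ((Equiv.mulLeft (⟨n₀, hn₀⟩ : normalizer (D.E : Set G))⁻¹).subtypeEquiv fun n => ?_)
    show _ ↔ n₀⁻¹ * (n : G) * D.t * (n₀⁻¹ * (n : G))⁻¹ = D.t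
    rw [show n₀⁻¹ * (n : G) * D.t * (n₀⁻¹ * (n : G))⁻¹ = n₀⁻¹ * ((n : G) * D.t * (n : G)⁻¹) * n₀ by group,
      hf n]
    have hlt : ∀ l : five, (l : ℕ) < 16 := fun l => by
      have h := l.2; simp only [five, Finset.mem_insert, Finset.mem_singleton] at h; omega
    constructor
    · rintro rfl
      rw [← e₀]; group
    · intro h
      refine Subtype.ext (D.v_inj (hlt _) (hlt _) ?_)
      rw [← e₀]
      calc D.v (f n) = n₀ * (n₀⁻¹ * D.v (f n) * n₀) * n₀⁻¹ := by group
        _ = _ := by rw [h]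
  simp only [hfib, Finset.sum_const, Finset.card_univ, Fintype.card_coe, smul_eq_mul,
    show five.card = 5 from rfl]

end Setup

end CfsgLib.PSpFourInvol
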